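import Cfsg.Agent.Lib.Bender.Regular
import Cfsg.Agent.Lib.Lie.RankOneClass.Regular

/-!
Owner: helper29. Bender's theorem on strongly embedded subgroups with solvable (more generally 2-constrained,
involution-commuting) stabiliser: the statements.

* `index_eq`: the index is one more than the 2-part of the order.
* `transitive`: the subgroup is transitive on the other cosets.
* `exists_regular`: if it is core free it has a normal 2-subgroup regular on the other cosets.
* `classify`: the simple groups.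
-/

set_option autoImplicit false
set_option linter.style.haveILetI false
set_option linter.unusedSectionVars false

namespace CfsgLib.Bender

open Subgroup MulAction
open CfsgLib.Signalizer (involution_sq involution_inv orderOf_eq_two_of involution_ne_one)

universe u

/-- An element of two-power order above an element whose image has order two. -/
theorem exists_involution_lift {G : Type*} [Group G] [Finite G] {W : Subgroup G} (hW : Odd (Nat.card W))
    {x : G} (hx : x * x ∈ W) (hxW : x ∉ W) :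
    ∃ t : G, orderOf t = 2 ∧ x⁻¹ * t ∈ W ∧ ∃ k : ℕ, t = x ^ k := by
  obtain ⟨n, hn⟩ := hW.of_dvd_nat (orderOf_dvd_natCard _ hx)
  refine ⟨x ^ (2 * n + 1), orderOf_eq_two_of ?_ ?_, ?_, _, rfl⟩
  · intro h
    refine hxW ?_
    have h1 : (x * x) ^ n * x = 1 := by rw [← pow_two, ← pow_mul, ← pow_succ, h]
    rw [eq_inv_of_mul_eq_one_right h1]
    exact inv_mem (pow_mem hx n)
  · rw [← pow_add, ← two_mul, pow_mul, pow_two, ← hn, pow_orderOf_eq_one]
  · rw [pow_succ', inv_mul_cancel_left, pow_mul, pow_two]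
    exact pow_mem hx n

theorem odd_normalCore {G : Type*} [Group G] [Finite G] {M : Subgroup G}
    (hM : Cfsg.IsStronglyEmbedded M) : Odd (Nat.card M.normalCore) := by
  obtain ⟨g, -, hg⟩ := SetLike.exists_of_lt (lt_top_iff_ne_top.2 hM.1)
  refine (hM.2.2 g hg).of_dvd_nat (card_dvd_of_le (le_inf M.normalCore_le fun k hk => ?_))
  exact ⟨g⁻¹ * k * g, M.normalCore_le (by
    simpa using M.normalCore_normal.conj_mem k hk g⁻¹), by simp [mul_assoc]⟩

theorem smallerOK : ∀ m : ℕ, SmallerOK.{u} m := by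
  intro m
  induction m using Nat.strong_induction_on with
  | _ m ih =>
    intro G _ _ hlt M hM hS hsol
    have hsmall : SmallerOK.{u} (Nat.card G) := ih _ hlt
    by_cases hK : M.normalCore = ⊥
    · have hfaith : ∀ g : G, (∀ x : G ⧸ M, g • x = x) → g = 1 := fun g hg => by
        have h : g ∈ M.normalCore := by
          rw [Subgroup.normalCore_eq_ker, MonoidHom.mem_ker]
          exact Equiv.ext hg
        rwa [hK, mem_bot] at h
      obtain ⟨U, -, -, -, -, -, hcard⟩ := hS.exists_regular hsmall hfaith _ hsol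
      rw [Subgroup.index_eq_card]
      exact hcard
    set K := M.normalCore with hKdef
    have hKodd : Odd (Nat.card K) := odd_normalCore hM
    have hKM : K ≤ M := M.normalCore_le
    set π := QuotientGroup.mk' K with hπ
    have hsur : Function.Surjective π := QuotientGroup.mk'_surjective K
    set M' := M.map π with hM'def
    have hmemM' : ∀ x : G, π x ∈ M' ↔ x ∈ M := fun x => by
      refine ⟨fun ⟨y, hy, he⟩ => ?_, fun h => ⟨x, h, rfl⟩⟩
      have h1 : y⁻¹ * x ∈ K := QuotientGroup.eq.1 he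
      have := mul_mem hy (hKM h1)
      rwa [mul_inv_cancel_left] at this
    set o : G ⧸ M := ((1 : G) : G ⧸ M) with ho
    set o' : (G ⧸ K) ⧸ M' := ((1 : G ⧸ K) : (G ⧸ K) ⧸ M') with ho'
    -- an involution of the quotient in `M'` lifts
    have hlift : ∀ z : G ⧸ K, InvAt z o' → ∃ t : G, InvAt t o ∧ π t = z := by
      intro z hz
      obtain ⟨hz2, hzM⟩ := invAt_base.1 hz
      obtain ⟨x, rfl⟩ := hsur z
      obtain ⟨t, ht2, htx, k, hk⟩ := exists_involution_lift hKodd (x := x) (by
        rw [← QuotientGroup.eq_one_iff]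
        exact involution_sq hz2) (fun h => by
        rw [show π x = 1 from (QuotientGroup.eq_one_iff x).2 h, orderOf_one] at hz2
        exact absurd hz2 (by norm_num))
      refine ⟨t, invAt_base.2 ⟨ht2, hk ▸ M.pow_mem ((hmemM' x).1 hzM) k⟩, ?_⟩
      exact (QuotientGroup.eq.2 htx).symm
    have hcore : ∀ w : G, w ∈ core G o → π w ∈ core (G ⧸ K) o' := by
      intro w hw
      refine le_core (N := (core G o).map π) ?_ ?_ ?_ ⟨w, hw, rfl⟩
      · rw [stab_base]
        refine map_mono ?_
        exact (core_le o).trans (stab_base M).le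
      · rw [stab_base]
        rintro _ ⟨g, hg, rfl⟩
        exact le_normalizer_map π ⟨g, le_normalizer_core o ((stab_base M).symm ▸ hg), rfl⟩
      · exact (core_odd o).of_dvd_nat (Subgroup.card_map_dvd _ π)
    have hM' : Cfsg.IsStronglyEmbedded M' := by
      refine ⟨fun h => hM.1 (eq_top_iff.2 fun x _ => (hmemM' x).1 (h ▸ mem_top _)), ?_, fun g hg => ?_⟩
      · obtain ⟨t, htM, ht⟩ := CfsgLib.Signalizer.exists_involution_of_even hM.2.1
        refine even_iff_two_dvd.2 ?_
        have h := M'.orderOf_dvd_natCard ((hmemM' t).2 htM)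
        have h2 : orderOf (π t) ∣ 2 := ht ▸ orderOf_map_dvd π t
        rcases (Nat.dvd_prime Nat.prime_two).1 h2 with h' | h'
        · exfalso
          exact not_mem_of_odd hKodd ht ((QuotientGroup.eq_one_iff t).1 (orderOf_eq_one_iff.1 h'))
        · rwa [h'] at h
      · obtain ⟨x, rfl⟩ := hsur g
        have hx : x ∉ M := fun h => hg ((hmemM' x).2 h)
        refine (hM.2.2 x hx).of_dvd_nat ?_
        refine dvd_trans (card_dvd_of_le ?_) (Subgroup.card_map_dvd _ π)
        intro z hz
        obtain ⟨y, hy, rfl⟩ := hz.1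
        obtain ⟨y', hy', he⟩ := hz.2
        obtain ⟨y'', hy'', rfl⟩ := hy'
        refine ⟨y, ⟨hy, ?_⟩, rfl⟩
        have h1 : π (x⁻¹ * y * x) = π y'' := by
          rw [map_mul, map_mul, map_inv, ← he]
          simp [mul_assoc]
        have h2 : x⁻¹ * y * x ∈ M := (hmemM' _).1 (h1 ▸ ⟨y'', hy'', rfl⟩)
        exact ⟨_, h2, by simp [mul_assoc]⟩
    have hS' : Setting (G ⧸ K) ((G ⧸ K) ⧸ M') := by
      refine setting_of_stronglyEmbedded hM' ?_ ?_
      · obtain ⟨s, t, hs, ht, hne, hst⟩ := hS.four o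
        have key : ∀ t : G, InvAt t o → π t ∈ M' ∧ orderOf (π t) = 2 := fun t ht => by
          obtain ⟨ht2, htM⟩ := invAt_base.1 ht
          refine ⟨(hmemM' t).2 htM, orderOf_eq_two_of (fun h => ?_) (by rw [← map_mul, involution_sq ht2, map_one])⟩
          exact not_mem_of_odd hKodd ht2 ((QuotientGroup.eq_one_iff t).1 h)
        refine ⟨π s, (key s hs).1, π t, (key t ht).1, (key s hs).2, (key t ht).2, fun h => ?_,
          by rw [← map_mul, hst, map_mul]⟩
        have h1 : s⁻¹ * t ∈ K := QuotientGroup.eq.1 h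
        rw [involution_inv hs.1] at h1
        exact not_mem_of_odd hKodd (hS.invAt_mul hs ht hne hst).1 h1
      · intro s t hs ht
        obtain ⟨s₁, hs₁, rfl⟩ := hlift s hs
        obtain ⟨t₁, ht₁, rfl⟩ := hlift t ht
        rw [← map_mul, ← map_mul, ← map_mul]
        exact hcore _ (hS.comm_mod hs₁ ht₁)
    have hsol' : SolvMod (G ⧸ K) o' := by
      let f : stabilizer G o →* stabilizer (G ⧸ K) o' :=
        (π.comp (stabilizer G o).subtype).codRestrict _ fun x => by
          rw [stab_base]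
          exact (hmemM' _).2 ((stab_base M).le x.2)
      haveI : Group.IsSolvable (imgHom G o).range := hsol
      set ψ := (imgHom (G ⧸ K) o').comp f
      have hker : (imgHom G o).rangeRestrict.ker ≤ ψ.rangeRestrict.ker := by
        intro x hx
        rw [MonoidHom.ker_rangeRestrict, MonoidHom.mem_ker] at hx ⊢
        refine Equiv.ext fun q => ?_
        induction q using Quotient.inductionOn with
        | _ r =>
          obtain ⟨t, ht, htr⟩ := hlift r r.2
          refine Quotient.sound ?_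
          have h := Quotient.exact (Equiv.ext_iff.1 hx (img ht))
          have h' := hcore _ h
          show π (x : G) * (r : G ⧸ K) * (π (x : G))⁻¹ * (r : G ⧸ K) ∈ core (G ⧸ K) o'
          rw [← htr, ← map_inv, ← map_mul, ← map_mul, ← map_mul]
          exact h'
      let g : (imgHom G o).range →* ψ.range :=
        (imgHom G o).rangeRestrict.liftOfSurjective (imgHom G o).rangeRestrict_surjective
          ⟨ψ.rangeRestrict, hker⟩
      have hrange : ψ.range = (imgHom (G ⧸ K) o').range := by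
        refine le_antisymm (fun y hy => by obtain ⟨x, rfl⟩ := hy; exact ⟨f x, rfl⟩) ?_
        rintro _ ⟨⟨z, hz⟩, rfl⟩
        obtain ⟨x, rfl⟩ := hsur z
        have hx : x ∈ stabilizer G o := by
          rw [stab_base] at hz ⊢
          exact (hmemM' x).1 hz
        exact ⟨⟨x, hx⟩, rfl⟩
      unfold SolvMod
      rw [← hrange]
      refine Group.isSolvable_of_surjective (f := g) fun y => ?_
      obtain ⟨x, rfl⟩ := ψ.rangeRestrict_surjective y
      exact ⟨(imgHom G o).rangeRestrict x, MonoidHom.liftOfRightInverse_comp_apply _ _ _ _ _⟩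
    have hlt' : Nat.card (G ⧸ K) < Nat.card G := CfsgLib.Core.card_quotient_lt K hK
    have h := hsmall (G ⧸ K) hlt' M' hM' hS' hsol'
    rw [hM'def, Subgroup.index_map_eq _ hsur (by rw [QuotientGroup.ker_mk']; exact hKM)] at h
    rw [h]
    congr 2
    have h1 := K.card_eq_card_quotient_mul_card_subgroup
    rw [h1]
    simp only [vp, Nat.factorization_mul Nat.card_pos.ne' Nat.card_pos.ne', Finsupp.add_apply,
      Nat.factorization_eq_zero_of_not_dvd
        (fun h => Nat.not_even_iff_odd.2 hKodd (even_iff_two_dvd.2 h) : ¬ 2 ∣ Nat.card K), add_zero]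

section Solvable

variable {G : Type u} [Group G] [Finite G] {M : Subgroup G} (hM : Cfsg.IsStronglyEmbedded M)
  (hsol : Group.IsSolvable M)
include hM hsol

/-- In a solvable strongly embedded subgroup involutions commute modulo the odd core. -/
theorem comm_mod_of_solvable (s t : G) (hs : InvAt s ((1 : G) : G ⧸ M))
    (ht : InvAt t ((1 : G) : G ⧸ M)) : s * t * s * t ∈ core G ((1 : G) : G ⧸ M) := by
  classical
  set o : G ⧸ M := ((1 : G) : G ⧸ M)
  haveI : Group.IsSolvable (stabilizer G o) := by rw [stab_base]; exact hsol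
  set S := stabilizer G o with hSdef
  set π := QuotientGroup.mk' (Cfsg.oddCore S) with hπ
  haveI : Group.IsSolvable (S ⧸ Cfsg.oddCore S) :=
    Group.isSolvable_of_surjective (QuotientGroup.mk'_surjective (Cfsg.oddCore S))
  -- an abelian normal subgroup of exponent two
  have hodd : ∀ N : Subgroup (S ⧸ Cfsg.oddCore S), N.Normal → Odd (Nat.card N) → N = ⊥ := by
    intro N hN hNo
    haveI := hN
    have hle : N.comap π ≤ Cfsg.oddCore S := by
      refine CfsgLib.ZStar.le_oddCore inferInstance ?_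
      rw [CfsgLib.Core.card_comap_mk']
      exact (CfsgLib.ZStar.odd_card_oddCore _).mul hNo
    refine (eq_bot_iff_forall _).2 fun z hz => ?_
    obtain ⟨x, rfl⟩ := QuotientGroup.mk'_surjective _ z
    exact (QuotientGroup.eq_one_iff x).2 (hle hz)
  obtain ⟨A, hAn, hAab, hAne⟩ : ∃ A : Subgroup (S ⧸ Cfsg.oddCore S), A.Normal ∧
      (∀ x ∈ A, ∀ y ∈ A, x * y = y * x) ∧ A ≠ ⊥ := by
    have hex : ∃ k, derivedSeries (S ⧸ Cfsg.oddCore S) k = ⊥ :=
      (Group.isSolvable_def _).1 inferInstance
    have hne0 : (derivedSeries (S ⧸ Cfsg.oddCore S) 0) ≠ ⊥ := by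
      rw [derivedSeries_zero]
      intro h
      have : ∀ z : S ⧸ Cfsg.oddCore S, z = 1 := fun z => mem_bot.1 (h ▸ mem_top z)
      exact not_mem_of_odd (CfsgLib.ZStar.odd_card_oddCore S) (t := (⟨s, hs.2⟩ : S))
        ((Subgroup.orderOf_coe (⟨s, hs.2⟩ : S)).symm.trans hs.1) ((QuotientGroup.eq_one_iff _).1 (this _))
    obtain ⟨k, hk, hk1⟩ : ∃ k, derivedSeries (S ⧸ Cfsg.oddCore S) k ≠ ⊥ ∧
        derivedSeries (S ⧸ Cfsg.oddCore S) (k + 1) = ⊥ := by
      by_contra hcon
      push Not at hcon
      obtain ⟨k, hk⟩ := hex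
      have : ∀ j, derivedSeries (S ⧸ Cfsg.oddCore S) j ≠ ⊥ := fun j => by
        induction j with
        | zero => exact hne0
        | succ j ihj => exact hcon j ihj
      exact this k hk
    refine ⟨_, derivedSeries_normal _ k, fun x hx y hy => ?_, hk⟩
    rw [derivedSeries_succ] at hk1
    have h := hk1 ▸ commutator_mem_commutator hx hy
    rwa [mem_bot, commutatorElement_eq_one_iff_mul_comm] at h
  have hAeven : Even (Nat.card A) := by
    rw [← Nat.not_odd_iff_even]
    exact fun h => hAne (hodd A hAn h)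
  obtain ⟨⟨z, hzA⟩, hz⟩ := exists_prime_orderOf_dvd_card' 2 (hp := ⟨Nat.prime_two⟩) hAeven.two_dvd
  rw [Subgroup.orderOf_mk] at hz
  obtain ⟨x, rfl⟩ := QuotientGroup.mk'_surjective _ z
  obtain ⟨r, hr, hrx, -⟩ := exists_involution_lift (CfsgLib.ZStar.odd_card_oddCore S) (x := x) (by
    rw [← QuotientGroup.eq_one_iff]
    exact involution_sq hz) (fun h => by
    rw [show π x = 1 from (QuotientGroup.eq_one_iff x).2 h, orderOf_one] at hz
    exact absurd hz (by norm_num))
  have hrA : π r ∈ A := by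
    rw [show π r = π x from ((QuotientGroup.eq.2 hrx).symm)]
    exact hzA
  -- every involution at the point has its image there
  obtain ⟨g₀, -, hg₀⟩ := SetLike.exists_of_lt (lt_top_iff_ne_top.2 hM.1)
  have hne : o ≠ (g₀ : G ⧸ M) := fun h => hg₀ (by simpa using QuotientGroup.eq.1 h)
  have hall : ∀ q : S, orderOf q = 2 → π q ∈ A := by
    intro q hq
    obtain ⟨d, hd1, -, hd3⟩ := CfsgLib.TwoGroups.SE.exists_conj_fixing hM hne
      (s := (r : G)) (t := (q : G)) (by rw [Subgroup.orderOf_coe]; exact hr) r.2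
      (by rw [Subgroup.orderOf_coe]; exact hq) q.2
    have : q = (⟨d, hd1⟩ : S) * r * (⟨d, hd1⟩ : S)⁻¹ := Subtype.ext hd3.symm
    rw [this, map_mul, map_mul, map_inv]
    exact hAn.conj_mem _ hrA _
  have h1 := hall ⟨s, hs.2⟩ ((Subgroup.orderOf_coe (⟨s, hs.2⟩ : S)).symm.trans hs.1)
  have h2 := hall ⟨t, ht.2⟩ ((Subgroup.orderOf_coe (⟨t, ht.2⟩ : S)).symm.trans ht.1)
  set s' : S := ⟨s, hs.2⟩
  set t' : S := ⟨t, ht.2⟩
  have h3 : π (s' * t' * s' * t') = 1 := by
    rw [map_mul, map_mul, map_mul, hAab _ h1 _ h2, mul_assoc (π t') (π s'), ← map_mul π s' s',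
      show s' * s' = 1 from Subtype.ext (involution_sq hs.1), map_one, mul_one, ← map_mul,
      show t' * t' = 1 from Subtype.ext (involution_sq ht.1), map_one]
  exact ⟨s' * t' * s' * t', (QuotientGroup.eq_one_iff _).1 h3, rfl⟩

theorem solvMod_of_solvable : SolvMod G ((1 : G) : G ⧸ M) := by
  haveI : Group.IsSolvable (stabilizer G ((1 : G) : G ⧸ M)) := by rw [stab_base]; exact hsol
  exact Group.isSolvable_of_surjective (imgHom G ((1 : G) : G ⧸ M)).rangeRestrict_surjective

variable (hfour : ∃ s ∈ M, ∃ t ∈ M, orderOf s = 2 ∧ orderOf t = 2 ∧ s ≠ t ∧ s * t = t * s)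
include hfour

theorem setting_of_solvable : Setting G (G ⧸ M) :=
  setting_of_stronglyEmbedded hM hfour (comm_mod_of_solvable hM hsol)

/-- The index of a solvable strongly embedded subgroup. -/
theorem index_eq : M.index = 2 ^ (Nat.card G).factorization 2 + 1 :=
  smallerOK (Nat.card G + 1) G (Nat.lt_succ_self _) M hM (setting_of_solvable hM hsol hfour)
    (solvMod_of_solvable hM hsol)

/-- A solvable strongly embedded subgroup is transitive on the other cosets. -/
theorem transitive :
    ∀ g₁ g₂ : G, g₁ ∉ M → g₂ ∉ M → ∃ h ∈ M, g₂⁻¹ * (h * g₁) ∈ M := by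
  intro g₁ g₂ h₁ h₂
  have hne : ∀ g : G, g ∉ M → (g : G ⧸ M) ≠ ((1 : G) : G ⧸ M) := fun g hg h =>
    hg (by simpa using QuotientGroup.eq.1 h)
  obtain ⟨h, hh, he⟩ := (setting_of_solvable hM hsol hfour).exists_stab_smul (hne g₁ h₁) (hne g₂ h₂)
  refine ⟨h, stab_base M ▸ (show h ∈ stabilizer G ((1 : G) : G ⧸ M) from hh), ?_⟩
  rw [MulAction.Quotient.smul_coe, smul_eq_mul] at he
  exact QuotientGroup.eq.1 he.symm

/-- A core free solvable strongly embedded subgroup has a normal 2-subgroup regular on the other cosets. -/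
theorem exists_regular (hcore : M.normalCore = ⊥) :
    ∃ U : Subgroup G, U ≤ M ∧ (U.subgroupOf M).Normal ∧ IsPGroup 2 U ∧
      (∀ g₁ g₂ : G, g₁ ∉ M → g₂ ∉ M → ∃ u ∈ U, g₂⁻¹ * (u * g₁) ∈ M) ∧
      (∀ g : G, g ∉ M → ∀ u ∈ U, g⁻¹ * (u * g) ∈ M → u = 1) ∧
      Nat.card U = 2 ^ (Nat.card G).factorization 2 := by
  have hfaith : ∀ g : G, (∀ x : G ⧸ M, g • x = x) → g = 1 := fun g hg => by
    have h : g ∈ M.normalCore := by
      rw [Subgroup.normalCore_eq_ker, MonoidHom.mem_ker]
      exact Equiv.ext hg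
    rwa [hcore, mem_bot] at h
  obtain ⟨U, hUa, hUn, htr, hfree, hU, -⟩ := (setting_of_solvable hM hsol hfour).exists_regular
    (smallerOK _) hfaith _ (solvMod_of_solvable hM hsol)
  rw [stab_base] at hUa hUn
  have hne : ∀ g : G, g ∉ M → (g : G ⧸ M) ≠ ((1 : G) : G ⧸ M) := fun g hg h =>
    hg (by simpa using QuotientGroup.eq.1 h)
  refine ⟨U, hUa, normal_subgroupOf_of_le_normalizer hUn, IsPGroup.of_card hU, ?_, ?_, hU⟩
  · intro g₁ g₂ h₁ h₂
    obtain ⟨u, hu, he⟩ := htr _ _ (hne g₁ h₁) (hne g₂ h₂)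
    rw [MulAction.Quotient.smul_coe, smul_eq_mul] at he
    exact ⟨u, hu, QuotientGroup.eq.1 he.symm⟩
  · intro g hg u hu h
    refine hfree _ (hne g hg) u hu ?_
    rw [MulAction.Quotient.smul_coe, smul_eq_mul]
    exact (QuotientGroup.eq.2 h).symm

/-- The simple groups with a solvable strongly embedded subgroup. -/
theorem classify [IsSimpleGroup G] :
    (∃ (F : Type) (_ : Field F) (_ : Fintype F), (∃ n : ℕ, 2 ≤ n ∧ Fintype.card F = 2 ^ n) ∧
        Nonempty (G ≃* Matrix.ProjectiveSpecialLinearGroup (Fin 2) F)) ∨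
      Cfsg.IsSuzuki G ∨
      (∃ (F : Type) (_ : Field F) (_ : Fintype F) (n : ℕ), 2 ≤ n ∧ Fintype.card F = (2 ^ n) ^ 2 ∧
        Nonempty (G ≃* Cfsg.PSU 3 F (2 ^ n))) := by
  have hcore : M.normalCore = ⊥ :=
    (IsSimpleGroup.eq_bot_or_eq_top_of_normal _ inferInstance).resolve_right
      fun h => hM.1 (top_le_iff.1 (h ▸ M.normalCore_le))
  obtain ⟨U, hUM, hUn, -, htr, hreg, -⟩ := exists_regular hM hsol hfour hcore
  exact CfsgLib.Lie.RankOneClass.classify_regular M hM U hUM hUn htr hreg

end Solvable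

end CfsgLib.Bender
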