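import Mathlib

/-!
Owner: helper29. Fixed points of an elementary abelian 2-group acting on an abelian group of odd order.
-/

set_option autoImplicit false
set_option linter.style.haveILetI false
set_option linter.unusedSectionVars false

namespace CfsgLib.Bender

open Subgroup

variable {A E : Type*} [CommGroup A] [Finite A] [Group E] [Finite E] (α : E →* MulAut A)

/-- The fixed subgroup of an operator. -/
def fixOne (e : E) : Subgroup A where
  carrier := {a | α e a = a}
  one_mem' := map_one _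
  mul_mem' {a b} ha hb := by show α e (a * b) = a * b; rw [map_mul, ha, hb]
  inv_mem' {a} ha := by show α e a⁻¹ = a⁻¹; rw [map_inv, ha]

/-- The subgroup inverted by an operator. -/
def invOne (e : E) : Subgroup A where
  carrier := {a | α e a = a⁻¹}
  one_mem' := by simp
  mul_mem' {a b} ha hb := by show α e (a * b) = (a * b)⁻¹; rw [map_mul, ha, hb, mul_inv]
  inv_mem' {a} ha := by show α e a⁻¹ = a⁻¹⁻¹; rw [map_inv, ha]

/-- The subgroup fixed by a group of operators. -/
def fixAll (F : Subgroup E) : Subgroup A where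
  carrier := {a | ∀ e ∈ F, α e a = a}
  one_mem' := fun _ _ => map_one _
  mul_mem' {a b} ha hb := fun e he => by rw [map_mul, ha e he, hb e he]
  inv_mem' {a} ha := fun e he => by rw [map_inv, ha e he]

theorem mem_fixOne {e : E} {a : A} : a ∈ fixOne α e ↔ α e a = a := Iff.rfl

theorem mem_invOne {e : E} {a : A} : a ∈ invOne α e ↔ α e a = a⁻¹ := Iff.rfl

variable (hodd : Odd (Nat.card A)) (h2 : ∀ e : E, e * e = 1)
include hodd h2

theorem card_split (t : E) (B : Subgroup A) (hB : ∀ a ∈ B, α t a ∈ B) :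
    Nat.card B = Nat.card (B ⊓ fixOne α t : Subgroup A) * Nat.card (B ⊓ invOne α t : Subgroup A) := by
  rw [← Nat.card_prod]
  have htt : ∀ a : A, α t (α t a) = a := fun a => by
    rw [← MulAut.mul_apply, ← map_mul, h2, map_one, MulAut.one_apply]
  refine (Nat.card_eq_of_bijective (fun x : (B ⊓ fixOne α t : Subgroup A) × (B ⊓ invOne α t : Subgroup A) =>
    (⟨(x.1 : A) * x.2, B.mul_mem x.1.2.1 x.2.2.1⟩ : B)) ⟨?_, ?_⟩).symm
  · rintro ⟨⟨c, hc⟩, ⟨k, hk⟩⟩ ⟨⟨c', hc'⟩, ⟨k', hk'⟩⟩ h
    have h1 : c * k = c' * k' := congrArg Subtype.val h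
    have h3 := congrArg (α t) h1
    rw [map_mul, map_mul, show α t c = c from hc.2, show α t c' = c' from hc'.2,
      show α t k = k⁻¹ from hk.2, show α t k' = k'⁻¹ from hk'.2] at h3
    have hsq : (k * k'⁻¹) ^ 2 = 1 := by
      have e1 : c * k / (c * k⁻¹) = c' * k' / (c' * k'⁻¹) := by rw [h1, h3]
      rw [mul_div_mul_left_eq_div, mul_div_mul_left_eq_div, div_inv_eq_mul, div_inv_eq_mul] at e1
      rw [mul_pow, inv_pow, pow_two, pow_two, e1, mul_inv_cancel]
    have hord : orderOf (k * k'⁻¹) ∣ 2 := orderOf_dvd_of_pow_eq_one hsq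
    have := Nat.eq_one_of_dvd_coprimes (Nat.coprime_two_left.2 hodd) hord (orderOf_dvd_natCard _)
    have hkk : k = k' := mul_inv_eq_one.1 (orderOf_eq_one_iff.1 this)
    subst hkk
    obtain rfl := mul_right_cancel h1
    rfl
  · rintro ⟨b, hb⟩
    obtain ⟨n, hn⟩ := hodd
    have hpow : ∀ x : A, (x ^ 2) ^ (n + 1) = x := fun x => by
      rw [← pow_mul, show 2 * (n + 1) = 2 * n + 1 + 1 by ring, pow_succ, ← hn, pow_card_eq_one', one_mul]
    refine ⟨(⟨(b * α t b) ^ (n + 1), B.pow_mem (B.mul_mem hb (hB b hb)) _, ?_⟩,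
      ⟨(b * (α t b)⁻¹) ^ (n + 1), B.pow_mem (B.mul_mem hb (B.inv_mem (hB b hb))) _, ?_⟩), Subtype.ext ?_⟩
    · show α t _ = _
      rw [map_pow, map_mul, htt, mul_comm]
    · show α t _ = _
      rw [map_pow, map_mul, map_inv, htt, ← inv_pow, mul_inv_rev, inv_inv, mul_comm]
    · show (b * α t b) ^ (n + 1) * (b * (α t b)⁻¹) ^ (n + 1) = b
      rw [← mul_pow, mul_mul_mul_comm, mul_inv_cancel, mul_one, ← pow_two, hpow]

theorem fixed_formula : ∀ (F : Subgroup E) (B : Subgroup A), (∀ e ∈ F, ∀ a ∈ B, α e a ∈ B) →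
    ∀ [Fintype F], (Nat.card B * Nat.card (B ⊓ fixAll α F : Subgroup A)) ^ Nat.card F =
      (∏ e : F, Nat.card (B ⊓ fixOne α (e : E) : Subgroup A)) ^ 2 := by
  classical
  intro F
  induction h : Nat.card F using Nat.strong_induction_on generalizing F with
  | _ m ih =>
    subst h
    intro B hB _
    by_cases hF : F = ⊥
    · subst hF
      have e1 : B ⊓ fixAll α ⊥ = B := inf_eq_left.2 fun a _ e he => by
        rw [mem_bot] at he; rw [he, map_one, MulAut.one_apply]
      have e2 : B ⊓ fixOne α (1 : E) = B := inf_eq_left.2 fun a _ => by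
        show α 1 a = a; rw [map_one, MulAut.one_apply]
      rw [e1, Subgroup.card_bot, pow_one, Fintype.prod_subsingleton _ ⟨1, one_mem _⟩, pow_two]
      rw [e2]
    obtain ⟨t, htF, ht⟩ := (Subgroup.bot_or_exists_ne_one F).resolve_left hF
    obtain ⟨K, ⟨hKF, htK⟩, hmax⟩ := WellFounded.has_min (wellFounded_gt (α := Subgroup E))
      {K | K ≤ F ∧ t ∉ K} ⟨⊥, bot_le, fun h => ht (mem_bot.1 h)⟩
    have hcomm : ∀ x y : E, x * y = y * x := fun x y => by
      have h := h2 (x * y)
      rw [← inv_eq_of_mul_eq_one_right h, mul_inv_rev, inv_eq_of_mul_eq_one_right (h2 x),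
        inv_eq_of_mul_eq_one_right (h2 y)]
    have hcase : ∀ x ∈ F, x ∈ K ∨ t * x ∈ K := by
      intro x hx
      by_contra hcon
      push Not at hcon
      have hlt : K < K ⊔ zpowers x := lt_of_le_of_ne le_sup_left fun e =>
        hcon.1 (e ▸ mem_sup_right (mem_zpowers x))
      have htm : t ∈ K ⊔ zpowers x := by
        by_contra h'
        exact hmax _ ⟨sup_le hKF (zpowers_le.2 hx), h'⟩ hlt
      haveI hKn : K.Normal := ⟨fun k hk g => by rw [hcomm g k, mul_inv_cancel_right]; exact hk⟩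
      rw [← SetLike.mem_coe, Subgroup.normal_mul, Set.mem_mul] at htm
      obtain ⟨k, hk, z, hz, rfl⟩ := htm
      obtain ⟨j, rfl⟩ := mem_zpowers_iff.1 hz
      have hx2 : orderOf x ∣ 2 := orderOf_dvd_of_pow_eq_one (by rw [pow_two, h2])
      rcases Int.emod_two_eq_zero_or_one j with hj | hj
      · have : x ^ j = 1 := by
          rw [← orderOf_dvd_iff_zpow_eq_one]
          exact (Int.natCast_dvd_natCast.2 hx2).trans (Int.dvd_of_emod_eq_zero hj)
        rw [this, mul_one] at htK
        exact htK hk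
      · have : x ^ j = x := by
          rw [← Int.mul_ediv_add_emod j 2, hj, zpow_add, zpow_mul, zpow_one,
            show x ^ (2 : ℤ) = 1 by rw [zpow_two, h2], one_zpow, one_mul]
        rw [this] at hcon
        exact hcon.2 (by rw [mul_assoc, h2, mul_one]; exact hk)
    let φ : K × Bool → F := fun kb => if kb.2 then ⟨t * (kb.1 : E), F.mul_mem htF (hKF kb.1.2)⟩
      else ⟨kb.1, hKF kb.1.2⟩
    have hφ : Function.Bijective φ := by
      constructor
      · rintro ⟨k, b⟩ ⟨k', b'⟩ h
        have h' := congrArg Subtype.val h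
        rcases b with _ | _ <;> rcases b' with _ | _ <;> simp only [φ, Bool.false_eq_true, if_false, if_true] at h'
        · exact Prod.ext (Subtype.ext h') rfl
        · exact absurd (by rw [show t = (k : E) * (k' : E)⁻¹ from eq_mul_inv_of_mul_eq h'.symm]
                           exact K.mul_mem k.2 (K.inv_mem k'.2)) htK
        · exact absurd (by rw [show t = (k' : E) * (k : E)⁻¹ from eq_mul_inv_of_mul_eq h']
                           exact K.mul_mem k'.2 (K.inv_mem k.2)) htK
        · exact Prod.ext (Subtype.ext (mul_left_cancel h')) rfl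
      · rintro ⟨x, hx⟩
        rcases hcase x hx with h | h
        · exact ⟨(⟨x, h⟩, false), rfl⟩
        · exact ⟨(⟨t * x, h⟩, true), Subtype.ext (by simp [φ, ← mul_assoc, h2])⟩
    have hcF : Nat.card F = 2 * Nat.card K := by
      rw [← Nat.card_eq_of_bijective φ hφ, Nat.card_prod, Nat.card_eq_fintype_card (α := Bool),
        Fintype.card_bool, mul_comm]
    have := Fintype.ofFinite K
    set Bp := B ⊓ fixOne α t
    set Bm := B ⊓ invOne α t
    have hc2 : ∀ e x : E, ∀ a : A, α e (α x a) = α x (α e a) := fun e x a => by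
      rw [← MulAut.mul_apply, ← MulAut.mul_apply, ← map_mul, ← map_mul, hcomm]
    have hBp : ∀ e ∈ K, ∀ a ∈ Bp, α e a ∈ Bp := fun e he a ha =>
      ⟨hB e (hKF he) a ha.1, by show α t (α e a) = α e a; rw [hc2, show α t a = a from ha.2]⟩
    have hih := ih _ (by have := Nat.card_pos (α := K); omega) K rfl Bp hBp
    have hC : Bp ⊓ fixAll α K = B ⊓ fixAll α F := by
      ext a
      constructor
      · rintro ⟨⟨haB, hat⟩, haK⟩
        refine ⟨haB, fun x hx => ?_⟩
        rcases hcase x hx with h | h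
        · exact haK x h
        · have e : x = t * (t * x) := by rw [← mul_assoc, h2, one_mul]
          rw [e, map_mul, MulAut.mul_apply, haK _ h, show α t a = a from hat]
      · rintro ⟨haB, haF⟩
        exact ⟨⟨haB, haF t htF⟩, fun x hx => haF x (hKF hx)⟩
    have hk : ∀ k : K, Nat.card (B ⊓ fixOne α (k : E) : Subgroup A) *
        Nat.card (B ⊓ fixOne α (t * (k : E)) : Subgroup A) =
        Nat.card (Bp ⊓ fixOne α (k : E) : Subgroup A) ^ 2 * Nat.card Bm := by
      intro k
      have hkF := hKF k.2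
      rw [card_split α hodd h2 t (B ⊓ fixOne α (k : E)) fun a ha => ⟨hB t htF a ha.1, by
          show α (k : E) (α t a) = α t a
          rw [hc2, show α (k : E) a = a from ha.2]⟩,
        card_split α hodd h2 t (B ⊓ fixOne α (t * (k : E))) fun a ha => ⟨hB t htF a ha.1, by
          show α (t * (k : E)) (α t a) = α t a
          rw [hc2, show α (t * (k : E)) a = a from ha.2]⟩,
        card_split α hodd h2 (k : E) Bm fun a ha => ⟨hB k hkF a ha.1, by
          show α t (α (k : E) a) = (α (k : E) a)⁻¹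
          rw [hc2, show α t a = a⁻¹ from ha.2, map_inv]⟩]
      have e1 : B ⊓ fixOne α (k : E) ⊓ fixOne α t = Bp ⊓ fixOne α (k : E) := inf_right_comm _ _ _
      have e2 : B ⊓ fixOne α (t * (k : E)) ⊓ fixOne α t = Bp ⊓ fixOne α (k : E) := by
        ext a
        simp only [Bp, Subgroup.mem_inf, mem_fixOne, map_mul, MulAut.mul_apply]
        constructor
        · rintro ⟨⟨h1, h3⟩, h4⟩
          exact ⟨⟨h1, h4⟩, (α t).injective (h3.trans h4.symm)⟩
        · rintro ⟨⟨h1, h4⟩, h5⟩
          exact ⟨⟨h1, by rw [h5, h4]⟩, h4⟩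
      have e3 : B ⊓ fixOne α (k : E) ⊓ invOne α t = Bm ⊓ fixOne α (k : E) := inf_right_comm _ _ _
      have e4 : B ⊓ fixOne α (t * (k : E)) ⊓ invOne α t = Bm ⊓ invOne α (k : E) := by
        ext a
        simp only [Bm, Subgroup.mem_inf, mem_fixOne, mem_invOne, map_mul, MulAut.mul_apply]
        constructor
        · rintro ⟨⟨h1, h3⟩, h4⟩
          exact ⟨⟨h1, h4⟩, (α t).injective (h3.trans (by rw [map_inv, h4, inv_inv]))⟩
        · rintro ⟨⟨h1, h4⟩, h5⟩
          exact ⟨⟨h1, by rw [h5, map_inv, h4, inv_inv]⟩, h4⟩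
      rw [e1, e2, e3, e4]
      ring
    rw [hC] at hih
    rw [← Equiv.prod_comp (Equiv.ofBijective φ hφ), Fintype.prod_prod_type]
    simp only [Equiv.ofBijective_apply, Fintype.prod_bool, φ, if_true, Bool.false_eq_true, if_false]
    rw [show (∏ x : K, Nat.card (B ⊓ fixOne α (t * (x : E)) : Subgroup A) *
        Nat.card (B ⊓ fixOne α (x : E) : Subgroup A)) =
        ∏ x : K, Nat.card (Bp ⊓ fixOne α (x : E) : Subgroup A) ^ 2 * Nat.card Bm from
      Finset.prod_congr rfl fun x _ => by rw [mul_comm, hk]]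
    rw [Finset.prod_mul_distrib, Finset.prod_const, Finset.card_univ, ← Nat.card_eq_fintype_card,
      Finset.prod_pow, mul_pow, ← hih, card_split α hodd h2 t B (hB t htF), hcF]
    ring

/-- If all nontrivial operators fix as many elements, a nontrivial action moves much. -/
theorem card_le_two_mul {p : ℕ} (hp : p.Prime) (hA : ∃ m, Nat.card A = p ^ m) {δ : ℕ}
    (hfix : ∀ e : E, e ≠ 1 → Nat.card (fixOne α e) * p ^ δ = Nat.card A) (hδ : δ ≠ 0) :
    Nat.card E ≤ 2 * δ := by
  classical
  obtain ⟨m, hm⟩ := hA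
  have := Fintype.ofFinite E
  have h := fixed_formula α hodd h2 ⊤ ⊤ fun _ _ _ _ => mem_top _
  obtain ⟨c, -, hc⟩ := (Nat.dvd_prime_pow hp).1
    (hm ▸ (⊤ ⊓ fixAll α ⊤ : Subgroup A).card_subgroup_dvd_card)
  rw [Subgroup.card_top, Subgroup.card_top, hm, hc, ← pow_add, ← pow_mul] at h
  set N := Nat.card E
  have hm' : ∀ e : E, e ≠ 1 → ∃ j, Nat.card (fixOne α e) = p ^ j ∧ j + δ = m := fun e he => by
    obtain ⟨j, -, hj⟩ := (Nat.dvd_prime_pow hp).1 (hm ▸ (fixOne α e).card_subgroup_dvd_card)
    refine ⟨j, hj, ?_⟩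
    have := hfix e he
    rw [hj, hm, ← pow_add] at this
    exact Nat.pow_right_injective hp.two_le this
  have hδm : ∀ e : E, e ≠ 1 → δ ≤ m := fun e he => by obtain ⟨j, -, hj⟩ := hm' e he; omega
  have hprod : (∏ e : (⊤ : Subgroup E), Nat.card ((⊤ : Subgroup A) ⊓ fixOne α (e : E) : Subgroup A)) =
      p ^ (m + (N - 1) * (m - δ)) := by
    simp only [top_inf_eq]
    rw [← Finset.mul_prod_erase Finset.univ _ (Finset.mem_univ (1 : (⊤ : Subgroup E))),
      Finset.prod_congr rfl (g := fun _ => p ^ (m - δ))]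
    · rw [Finset.prod_const, Finset.card_erase_of_mem (Finset.mem_univ _), Finset.card_univ,
        ← Nat.card_eq_fintype_card, Subgroup.card_top, ← pow_mul, pow_add, mul_comm (m - δ)]
      congr 1
      rw [← hm, ← Subgroup.card_top (G := A)]
      congr 2
      ext a
      show α 1 a = a ↔ _
      simp
    · intro e he
      have he1 : (e : E) ≠ 1 := fun h => (Finset.mem_erase.1 he).1 (Subtype.ext h)
      obtain ⟨j, hj, hjm⟩ := hm' _ he1
      rw [hj]
      congr 1
      omega
  rw [hprod, ← pow_mul] at h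
  have h' := Nat.pow_right_injective hp.two_le h
  by_cases hN : N = 1
  · omega
  obtain ⟨e, he⟩ : ∃ e : E, e ≠ 1 := by
    haveI : Nontrivial E := Finite.one_lt_card_iff_nontrivial.1 (by have := Nat.card_pos (α := E); omega)
    exact exists_ne 1
  have hle := hδm e he
  have hcm : c ≤ m := by
    have := Nat.le_of_dvd (pow_pos hp.pos m)
      (hm ▸ hc ▸ (⊤ ⊓ fixAll α ⊤ : Subgroup A).card_subgroup_dvd_card)
    exact (Nat.pow_le_pow_iff_right hp.one_lt).1 this
  -- `N (m - c) = 2 (N - 1) δ` in the integers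
  have key : (N : ℤ) * ((m : ℤ) - c) = 2 * ((N : ℤ) - 1) * δ := by
    have h'' : ((m + c) * N : ℤ) = (m + (N - 1) * (m - δ)) * 2 := by
      have := congrArg (Nat.cast : ℕ → ℤ) h'
      push_cast [Nat.cast_sub hle, Nat.cast_sub (show 1 ≤ N by have := Nat.card_pos (α := E); omega)] at this
      exact this
    linarith [h'']
  have hdvd : (N : ℤ) ∣ 2 * δ := ⟨2 * δ - ((m : ℤ) - c), by linarith [key]⟩
  have hdvd' : N ∣ 2 * δ := by exact_mod_cast hdvd
  exact Nat.le_of_dvd (by omega) hdvd'

end CfsgLib.Bender
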