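import Cfsg.Agent.Lib.Bender.SylowKernel
import Cfsg.Agent.Lib.Bender.Involutive
import Cfsg.Agent.Lib.Components.FStar
import Cfsg.Agent.Lib.PGroups.Basic

/-!
Owner: helper29. The involutions at a point centralise the odd core of the stabiliser.
-/

set_option autoImplicit false
set_option linter.style.haveILetI false
set_option linter.unusedSectionVars false

namespace CfsgLib.Bender

open Subgroup MulAction
open CfsgLib.Signalizer (involution_sq involution_inv orderOf_eq_two_of involution_ne_one)

universe u

variable {G : Type u} {Ω : Type*} [Group G] [Finite G] [MulAction G Ω] [Finite Ω] (hS : Setting G Ω)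
include hS

namespace Setting

theorem congr_of_sq {a : Ω} {t t' : G} (ht : InvAt t a) (ht' : InvAt t' a) (h : t * t' ∉ core G a) :
    ∃ z : G, InvAt z a ∧ (t * t') * z ∈ core G a := by
  have hsq : (t * t') ^ 2 ∈ core G a := by
    rw [pow_two, ← mul_assoc]; exact hS.comm_mod ht ht'
  set g := t * t'
  have heven : Even (orderOf g) := by
    rw [← Nat.not_odd_iff_even]
    rintro ⟨n, hn⟩
    refine h ?_
    have : g = (g ^ 2) ^ (n + 1) := by
      rw [← pow_mul, show 2 * (n + 1) = 2 * n + 1 + 1 by ring, pow_succ, ← hn, pow_orderOf_eq_one,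
        one_mul]
    rw [this]
    exact pow_mem hsq _
  obtain ⟨m, hm⟩ := heven
  have hm0 : 0 < m := by have := orderOf_pos g; omega
  have hodd : Odd m := by
    rw [← Nat.not_even_iff_odd]
    rintro ⟨j, hj⟩
    have h1 := (core_odd a).of_dvd_nat (orderOf_dvd_natCard _ hsq)
    rw [orderOf_pow_of_dvd two_ne_zero ⟨m, by omega⟩, hm, hj,
      show (j + j + (j + j)) / 2 = j + j by omega] at h1
    exact Nat.not_even_iff_odd.2 h1 ⟨j, rfl⟩
  refine ⟨g ^ m, ⟨?_, (stabilizer G a).pow_mem (mul_mem ht.2 ht'.2) _⟩, ?_⟩
  · rw [orderOf_pow_of_dvd hm0.ne' ⟨2, by omega⟩, hm]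
    exact Nat.div_eq_of_eq_mul_left hm0 (by omega)
  · obtain ⟨k, hk⟩ := hodd
    rw [← pow_succ', show m + 1 = 2 * (k + 1) by omega, pow_mul]
    exact pow_mem hsq _

/-- An elementary abelian subgroup covering the images. -/
theorem exists_elementary (a : Ω) : ∃ E : Subgroup G, E ≤ stabilizer G a ∧ (∀ e ∈ E, e * e = 1) ∧
    ∀ t : G, InvAt t a → ∃ e ∈ E, t * e ∈ core G a := by
  haveI : Fact (Nat.Prime 2) := ⟨Nat.prime_two⟩
  have hWn : ∀ g : G, g • a = a → ∀ w ∈ core G a, g * w * g⁻¹ ∈ core G a := fun g hg w hw => core_conj_mem hg hw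
  let V : Subgroup G :=
    { carrier := {g | g ∈ core G a ∨ ∃ t, InvAt t a ∧ g * t ∈ core G a}
      one_mem' := Or.inl (one_mem _)
      mul_mem' := by
        rintro g g' (hg | ⟨t, ht, hgt⟩) (hg' | ⟨t', ht', hgt'⟩)
        · exact Or.inl (mul_mem hg hg')
        · exact Or.inr ⟨t', ht', by rw [mul_assoc]; exact mul_mem hg hgt'⟩
        · refine Or.inr ⟨t, ht, ?_⟩
          have := mul_mem hgt (hWn t ht.2 g' hg')
          simpa [mul_assoc, involution_inv ht.1, ← mul_assoc t t, involution_sq ht.1] using this
        · -- `g g'` is congruent to `t t'`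
          have h1 : g * g' * (t' * t) ∈ core G a := by
            have := mul_mem hgt (hWn t ht.2 (g' * t') hgt')
            simpa [mul_assoc, involution_inv ht.1, ← mul_assoc t t, involution_sq ht.1] using this
          by_cases hc : t * t' ∈ core G a
          · left
            have := mul_mem h1 hc
            simpa [mul_assoc, ← mul_assoc t t, involution_sq ht.1, involution_sq ht'.1] using this
          · obtain ⟨z, hz, hzc⟩ := hS.congr_of_sq ht ht' hc
            refine Or.inr ⟨z, hz, ?_⟩
            have := mul_mem h1 hzc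
            simpa [mul_assoc, ← mul_assoc t t, involution_sq ht.1, ← mul_assoc t' t', involution_sq ht'.1]
              using this
      inv_mem' := by
        rintro g (hg | ⟨t, ht, hgt⟩)
        · exact Or.inl (inv_mem hg)
        · refine Or.inr ⟨t, ht, ?_⟩
          have := hWn t ht.2 _ (inv_mem hgt)
          simpa [mul_assoc, involution_inv ht.1, ← mul_assoc t t, involution_sq ht.1] using this }
  have hVa : V ≤ stabilizer G a := by
    rintro g (hg | ⟨t, ht, hgt⟩)
    · exact core_le a hg
    · have := mul_mem (core_le a hgt) (show t ∈ stabilizer G a from ht.2)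
      rwa [mul_assoc, involution_sq ht.1, mul_one] at this
  obtain ⟨S, hS'⟩ := exists_isSyl 2 V
  have hsq : ∀ g ∈ V, g * g ∈ core G a := by
    rintro g (hg | ⟨t, ht, hgt⟩)
    · exact mul_mem hg hg
    · have := mul_mem hgt (hWn t ht.2 _ hgt)
      simpa [mul_assoc, involution_inv ht.1, ← mul_assoc t t, involution_sq ht.1] using this
  refine ⟨S, hS'.le.trans hVa, fun e he => ?_, fun t ht => ?_⟩
  · have h1 := (core_odd a).of_dvd_nat (orderOf_dvd_natCard _ (hsq e (hS'.le he)))
    obtain ⟨j, hj⟩ := hS'.isPGroup ⟨e * e, mul_mem he he⟩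
    have hd : orderOf (e * e) ∣ 2 ^ j := orderOf_dvd_of_pow_eq_one (by simpa [Subtype.ext_iff] using hj)
    exact orderOf_eq_one_iff.1
      (Nat.eq_one_of_dvd_coprimes (Nat.Coprime.pow_left j (Nat.coprime_two_left.2 h1)) hd dvd_rfl)
  · have htV : t ∈ V := Or.inr ⟨t, ht, congr_refl ht⟩
    obtain ⟨T, hT, htT⟩ := exists_isSyl_ge (p := 2) (R := zpowers t) (H := V)
      (IsPGroup.of_card (n := 1) (by rw [Nat.card_zpowers, ht.1, pow_one])) (zpowers_le.2 htV)
    obtain ⟨h, hh, hhT⟩ := hT.exists_conj hS'
    refine ⟨h * t * h⁻¹, hhT ▸ conj_mem_map_conj (htT (mem_zpowers t)), ?_⟩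
    have hhc : h ∈ cmod G a := by
      rcases hh with hh | ⟨s, hs, hhs⟩
      · exact core_le_cmod a hh
      · have := mul_mem (core_le_cmod a hhs) (hS.invAt_mem_cmod hs)
        rwa [mul_assoc, involution_sq hs.1, mul_one] at this
    exact congr_symm (ht.conj' (mem_cmod.1 hhc).1) ht ((mem_cmod.1 hhc).2 t ht)

theorem card_elementary {a : Ω} {E : Subgroup G} (hEa : E ≤ stabilizer G a)
    (hE2 : ∀ e ∈ E, e * e = 1) (hEc : ∀ t : G, InvAt t a → ∃ e ∈ E, t * e ∈ core G a) :
    Nat.card (Img G a) < Nat.card E := by
  classical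
  have hmem : ∀ q : Img G a, ∃ e : E, ∃ h : InvAt (e : G) a, img h = q := by
    intro q
    induction q using Quotient.inductionOn with
    | _ t =>
      obtain ⟨e, he, hte⟩ := hEc t t.2
      have hne : e ≠ 1 := fun h => by
        rw [h, mul_one] at hte; exact not_mem_of_odd (core_odd a) t.2.1 hte
      exact ⟨⟨e, he⟩, ⟨orderOf_eq_two_of hne (hE2 e he), hEa he⟩,
        Quotient.sound (congr_symm t.2 ⟨orderOf_eq_two_of hne (hE2 e he), hEa he⟩ hte)⟩
  choose f hf hfq using hmem
  have hinj : Function.Injective f := fun q q' h => by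
    have h1 := hfq q
    have h2 := hfq q'
    rw [← h1, ← h2, img_eq_iff, h]
    exact congr_refl (hf q')
  have h1 : (⟨1, one_mem _⟩ : E) ∉ Set.range f := by
    rintro ⟨q, hq⟩
    have := (hf q).1
    rw [hq] at this
    simp at this
  have := Fintype.ofFinite E
  have := Fintype.ofFinite (Img G a)
  rw [Nat.card_eq_fintype_card, Nat.card_eq_fintype_card]
  exact Fintype.card_lt_of_injective_of_notMem f hinj h1

/-- The involutions at a point centralise the odd core of the stabiliser. -/
theorem commute_core' {a : Ω} (hcard : ∀ (H : Subgroup G) (b : Ω) (s t w : G), a ≠ b → H ≠ ⊤ →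
      s ∈ H → t ∈ H → w ∈ H → InvAt s a → InvAt t a → s ≠ t → s * t = t * s → InvAt w b →
      ∃ k : ℕ, Nat.card {c : Ω // c ≠ a ∧ ∃ h ∈ H, h • a = c} = 2 ^ k)
    (hfaith : ∀ g : G, (∀ x : Ω, g • x = x) → g = 1) {t : G}
    (ht : InvAt t a) {w : G} (hw : w ∈ core G a) : w * t = t * w := by
  classical
  obtain ⟨b, hba⟩ := hS.exists_ne a
  set W := core G a with hWdef
  set D := pairStab G a b with hD
  obtain ⟨E, hEa, hE2, hEc⟩ := hS.exists_elementary a
  have hEn : ∀ e ∈ E, e ∈ normalizer (W : Set G) := fun e he => le_normalizer_core a (hEa he)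
  haveI hWsol : Group.IsSolvable W := Cfsg.Agent.S0205.result (core_odd a)
  have hEinv : ∀ e ∈ E, e ≠ 1 → InvAt e a := fun e he h => ⟨orderOf_eq_two_of h (hE2 e he), hEa he⟩
  have hEW : ∀ w ∈ W, ∀ e ∈ E, w * e = e * w := by
    -- the action on each `p`-core
    have hcore : ∀ (p : ℕ) [Fact p.Prime], ∀ w ∈ (Cfsg.pCore p W).map W.subtype, ∀ e ∈ E,
        w * e = e * w := by
      intro p _
      set T := (Cfsg.pCore p W).map W.subtype with hT
      have hTW : T ≤ W := map_subtype_le _
      have hTp : IsPGroup p T := (CfsgLib.Core.isPGroup_pCore p W).map _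
      have hTn : stabilizer G a ≤ normalizer (T : Set G) := by
        intro g hg
        let φ : W ≃* W :=
          { toFun := fun w => ⟨g * w * g⁻¹, core_conj_mem hg w.2⟩
            invFun := fun w => ⟨g⁻¹ * w * g, by simpa using core_conj_mem (inv_mem hg) w.2⟩
            left_inv := fun w => Subtype.ext (by simp [mul_assoc])
            right_inv := fun w => Subtype.ext (by simp [mul_assoc])
            map_mul' := fun w w' => Subtype.ext (by simp [mul_assoc]) }
        refine mem_normalizer_of_map_conj_eq ?_
        rw [hT, Subgroup.map_map]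
        conv_rhs => rw [← CfsgLib.Core.map_equiv_pCore φ, Subgroup.map_map]
        exact congrArg (fun f => Subgroup.map f _) (MonoidHom.ext fun w => rfl)
      have hTodd : Odd (Nat.card T) := odd_of_le hTW (core_odd a)
      by_cases hTbot : T = ⊥
      · intro w hw e _
        rw [hTbot, mem_bot] at hw
        rw [hw, one_mul, mul_one]
      -- `p` does not divide the kernel in the two-point stabiliser
      have hpX : ¬ p ∣ Nat.card (D ⊓ cmod G a : Subgroup G) := by
        intro hpd
        refine hTbot ((Subgroup.eq_bot_iff_forall _).2 fun r hr => hfaith r fun x => ?_)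
        obtain ⟨P, hP⟩ := exists_isSyl p D
        have hPa := hS.vp_stab_eq' hcard hfaith hba.symm hpd hP
        have hTP : T ≤ P := by
          obtain ⟨Q, hQ, hTQ⟩ := exists_isSyl_ge hTp (hTW.trans (core_le a))
          obtain ⟨k, hk, hkQ⟩ := hQ.exists_conj hPa
          intro z hz
          rw [← hkQ, mem_map_conj]
          exact hTQ ((mem_normalizer_iff''.1 (hTn hk) z).1 hz)
        by_cases hxa : x = a
        · rw [hxa]; exact core_smul a (hTW hr)
        obtain ⟨g, hg, rfl⟩ := hS.exists_stab_smul hba hxa
        have h : (g⁻¹ * r * g) • b = b := (hP.le (hTP ((mem_normalizer_iff''.1 (hTn hg) r).1 hr))).2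
        rw [mul_smul, mul_smul, inv_smul_eq_iff] at h
        exact h
      -- the image of the two-point stabiliser bounds the inverted part
      have hbound : ∀ s : G, InvAt s a →
          vp p (Nat.card T) ≤ vp p (Nat.card (T ⊓ centralizer {s} : Subgroup G)) + Nat.card (Img G a) / 2 := by
        intro s hs
        have hp2 : 3 ≤ p := by
          have h2 := (Fact.out : p.Prime).two_le
          have : p ≠ 2 := fun h => by
            have hc := card_eq_pow hTp
            have hpos : vp p (Nat.card T) ≠ 0 := fun h0 => hTbot (Subgroup.card_eq_one.1 (by rw [hc, h0, pow_zero]))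
            rw [h] at hc hpos
            rw [hc] at hTodd
            exact Nat.not_even_iff_odd.2 hTodd (Nat.even_pow.2 ⟨even_two, hpos⟩)
          omega
        set K := (D.subgroupOf (stabilizer G a)).map (imgHom G a) with hK
        have hKcard : vp p (Nat.card D) = vp p (Nat.card K) := by
          set f := (imgHom G a).comp (D.subgroupOf (stabilizer G a)).subtype with hf
          have h1 := f.ker.card_mul_index
          have h2 : f.ker.index = Nat.card K := by
            rw [Subgroup.index_ker, hK, hf, MonoidHom.range_comp, range_subtype]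
          have h3 : Nat.card f.ker = Nat.card (D ⊓ cmod G a : Subgroup G) := by
            rw [Nat.card_congr (f.ker.equivMapOfInjective
              ((stabilizer G a).subtype.comp (D.subgroupOf (stabilizer G a)).subtype)
              (Subtype.val_injective.comp Subtype.val_injective)).toEquiv]
            congr 2
            ext g
            constructor
            · rintro ⟨⟨⟨g, hga⟩, hgD⟩, hg, rfl⟩
              exact ⟨hgD, ⟨g, hga⟩, hg, rfl⟩
            · rintro ⟨hgD, ⟨g, hga⟩, hg, rfl⟩
              exact ⟨⟨⟨g, hga⟩, hgD⟩, hg, rfl⟩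
          rw [h2, h3, Nat.card_congr (subgroupOfEquivOfLe (inf_le_left : D ≤ _)).toEquiv] at h1
          rw [← h1]
          simp only [vp, Nat.factorization_mul Nat.card_pos.ne' Nat.card_pos.ne', Finsupp.add_apply,
            Nat.factorization_eq_zero_of_not_dvd hpX, zero_add]
        have hKle : vp p (Nat.card K) ≤ Nat.card (Img G a) / 2 := by
          have hd : Nat.card K ∣ (Nat.card (Img G a)).factorial := by
            rw [← Nat.card_perm]; exact K.card_subgroup_dvd_card
          refine ((Nat.factorization_le_iff_dvd Nat.card_pos.ne' (Nat.factorial_ne_zero _)).2 hd p).trans ?_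
          refine (Nat.factorization_factorial_le_div_pred (Fact.out : p.Prime) _).trans ?_
          exact Nat.div_le_div_left (by omega) two_pos
        have e1 := hS.vp_invAt hba.symm (p := p) hs
        have e2 := hS.vp_card_invAt (p := p) hs
        -- `[T : C_T(s)]` divides `[W : C_W(s)]`
        have e3 : vp p (Nat.card T) + vp p (Nat.card (W ⊓ centralizer {s} : Subgroup G)) ≤
            vp p (Nat.card W) + vp p (Nat.card (T ⊓ centralizer {s} : Subgroup G)) := by
          set C := W ⊓ centralizer ({s} : Set G)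
          have hn : C ≤ normalizer (T : Set G) := (inf_le_left.trans (core_le a)).trans hTn
          have h1 := congrArg (vp p) (CfsgLib.Core.card_sup_mul_card_inf C T hn)
          have h2 : C ⊓ T = T ⊓ centralizer ({s} : Set G) := by
            ext z
            exact ⟨fun h => ⟨h.2, h.1.2⟩, fun h => ⟨⟨hTW h.1, h.2⟩, h.1⟩⟩
          rw [h2] at h1
          have h3 := vp_card_mono (p := p) (sup_le inf_le_left hTW : C ⊔ T ≤ W)
          simp only [vp, Nat.factorization_mul Nat.card_pos.ne' Nat.card_pos.ne', Finsupp.add_apply] at h1 h3 ⊢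
          omega
        rw [← hD] at e1
        simp only [vp, ← hWdef] at e1 e2 e3 hKcard hKle ⊢
        omega
      -- the action on the abelianisation of `T`
      let α₀ : E →* MulAut T :=
        { toFun := fun e =>
            { toFun := fun r => ⟨e * r * (e : G)⁻¹, (mem_normalizer_iff.1 (hTn (hEa e.2)) r).1 r.2⟩
              invFun := fun r => ⟨(e : G)⁻¹ * r * e, (mem_normalizer_iff''.1 (hTn (hEa e.2)) r).1 r.2⟩
              left_inv := fun r => Subtype.ext (by simp [mul_assoc])
              right_inv := fun r => Subtype.ext (by simp [mul_assoc])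
              map_mul' := fun r r' => Subtype.ext (by simp [mul_assoc]) }
          map_one' := by ext r; simp
          map_mul' := fun e e' => by ext r; simp [mul_assoc] }
      let α : E →* MulAut (Abelianization T) :=
        { toFun := fun e => (α₀ e).abelianizationCongr
          map_one' := by
            rw [map_one]; exact MulEquiv.toMonoidHom_injective (Abelianization.hom_ext _ _ (by ext r; rfl))
          map_mul' := fun e e' => by
            rw [map_mul]; exact MulEquiv.toMonoidHom_injective (Abelianization.hom_ext _ _ (by ext r; rfl)) }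
      have hE2' : ∀ e : E, e * e = 1 := fun e => Subtype.ext (hE2 e e.2)
      have hAodd : Odd (Nat.card (Abelianization T)) :=
        hTodd.of_dvd_nat (Subgroup.card_quotient_dvd_card _)
      obtain ⟨m, hm⟩ := hTp.exists_card_eq
      obtain ⟨mA, -, hmA⟩ := (Nat.dvd_prime_pow (Fact.out : p.Prime)).1
        (hm ▸ Subgroup.card_quotient_dvd_card (commutator T))
      by_cases htriv : ∀ e : E, ∀ z, α e z = z
      · intro w hwT e he
        have hle : zpowers e ≤ centralizer (T : Set G) := by
          refine CfsgLib.Core.centralizes_of_centralizes_frattini_quotient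
            ((zpowers_le.2 (hEa he)).trans hTn) ?_ ?_
          · exact Nat.Coprime.coprime_dvd_left
              (show Nat.card (zpowers e) ∣ 2 by
                rw [Nat.card_zpowers]; exact orderOf_dvd_of_pow_eq_one (by rw [pow_two, hE2 e he]))
              (Nat.coprime_two_left.2 (hTodd.of_dvd_nat (frattini T).card_subgroup_dvd_card))
          · intro x hx k hk
            have hx' : x ∈ E := (zpowers_le.2 he) hx
            have h1 := htriv ⟨x, hx'⟩ (Abelianization.of ⟨k, hk⟩)
            change Abelianization.of (α₀ ⟨x, hx'⟩ ⟨k, hk⟩) = Abelianization.of (⟨k, hk⟩ : T) at h1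
            have h2 : (α₀ ⟨x, hx'⟩ ⟨k, hk⟩) * (⟨k, hk⟩ : T)⁻¹ ∈ commutator T := by
              rw [← Abelianization.ker_of (G := T), MonoidHom.mem_ker, map_mul, map_inv, h1, mul_inv_cancel]
            exact ⟨_, CfsgLib.PGroups.commutator_le_frattini' hTp h2, rfl⟩
        exact (mem_centralizer_iff.1 (hle (mem_zpowers e)) w hwT)
      exfalso
      push Not at htriv
      obtain ⟨e₀, z₀, hz₀⟩ := htriv
      have he₀ : (e₀ : G) ≠ 1 := fun h => hz₀ (by
        rw [show e₀ = 1 from Subtype.ext h, map_one, MulAut.one_apply])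
      -- all fixed subgroups have one order
      have hconst : ∀ e : E, e ≠ 1 → Nat.card (fixOne α e) = Nat.card (fixOne α e₀) := by
        intro e he
        have he' : (e : G) ≠ 1 := fun h => he (Subtype.ext h)
        obtain ⟨d, hd, hde⟩ := hS.conj_fixing hba.symm (hEinv e e.2 he') (hEinv e₀ e₀.2 he₀)
        have hdT : ∀ r ∈ T, d * r * d⁻¹ ∈ T := fun r hr => (mem_normalizer_iff.1 (hTn hd.1) r).1 hr
        let ψ : MulAut T :=
          { toFun := fun r => ⟨d * r * d⁻¹, hdT r r.2⟩
            invFun := fun r => ⟨d⁻¹ * r * d, (mem_normalizer_iff''.1 (hTn hd.1) r).1 r.2⟩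
            left_inv := fun r => Subtype.ext (by simp [mul_assoc])
            right_inv := fun r => Subtype.ext (by simp [mul_assoc])
            map_mul' := fun r r' => Subtype.ext (by simp [mul_assoc]) }
        refine Nat.card_congr ((ψ.abelianizationCongr).toEquiv.subtypeEquiv fun z => ?_)
        have hcomm : ψ.abelianizationCongr (α e z) = α e₀ (ψ.abelianizationCongr z) := by
          obtain ⟨r, rfl⟩ := QuotientGroup.mk_surjective z
          refine congrArg Abelianization.of (Subtype.ext ?_)
          show d * ((e : G) * r * (e : G)⁻¹) * d⁻¹ = (e₀ : G) * (d * r * d⁻¹) * (e₀ : G)⁻¹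
          rw [← hde]
          group
        show α e z = z ↔ α e₀ (ψ.abelianizationCongr z) = ψ.abelianizationCongr z
        rw [← hcomm, (ψ.abelianizationCongr).injective.eq_iff]
      obtain ⟨j₀, -, hj₀⟩ := (Nat.dvd_prime_pow (Fact.out : p.Prime)).1
        (hmA ▸ (fixOne α e₀).card_subgroup_dvd_card)
      have hj₀lt : j₀ < mA := by
        by_contra hcon
        have htop : fixOne α e₀ = ⊤ := Subgroup.eq_top_of_le_card _ (by
          rw [hj₀]
          exact hmA.le.trans (Nat.pow_le_pow_right (Fact.out : p.Prime).pos (not_lt.1 hcon)))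
        exact hz₀ (htop ▸ mem_top z₀ : z₀ ∈ fixOne α e₀)
      have hbig := card_le_two_mul α hAodd hE2' (Fact.out : p.Prime) ⟨mA, hmA⟩ (δ := mA - j₀)
        (fun e he => by
          rw [hconst e he, hj₀, ← pow_add]
          exact (congrArg _ (by omega : j₀ + (mA - j₀) = mA)).trans hmA.symm)
        (by omega)
      have hsmallδ : mA ≤ j₀ + Nat.card (Img G a) / 2 := by
        have hb := hbound e₀ (hEinv e₀ e₀.2 he₀)
        -- the centraliser maps into the fixed subgroup
        have hmap : ((T ⊓ centralizer {(e₀ : G)}).subgroupOf T).map Abelianization.of ≤ fixOne α e₀ := by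
          rintro _ ⟨r, hr, rfl⟩
          refine congrArg Abelianization.of (Subtype.ext ?_)
          show (e₀ : G) * r * (e₀ : G)⁻¹ = r
          rw [← mem_centralizer_singleton_iff.1 (mem_subgroupOf.1 hr).2, mul_inv_cancel_right]
        have h1 : Nat.card (T ⊓ centralizer {(e₀ : G)} : Subgroup G) ∣
            Nat.card (fixOne α e₀) * Nat.card (commutator T) := by
          rw [← Nat.card_congr (subgroupOfEquivOfLe (inf_le_left : T ⊓ centralizer {(e₀ : G)} ≤ T)).toEquiv]
          set C' := (T ⊓ centralizer {(e₀ : G)}).subgroupOf T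
          have e4 := (Abelianization.of.comp C'.subtype).ker.card_mul_index
          rw [Subgroup.index_ker, MonoidHom.range_comp, range_subtype] at e4
          rw [← e4, mul_comm (Nat.card (fixOne α e₀))]
          refine Nat.mul_dvd_mul ?_ (card_dvd_of_le hmap)
          rw [Nat.card_congr (Subgroup.equivMapOfInjective _ _ C'.subtype_injective).toEquiv]
          refine card_dvd_of_le ?_
          rintro _ ⟨r, hr, rfl⟩
          rw [← Abelianization.ker_of (G := T)]
          exact hr
        have h2 := (Nat.factorization_le_iff_dvd Nat.card_pos.ne'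
          (mul_ne_zero Nat.card_pos.ne' Nat.card_pos.ne')).2 h1 p
        have h3 := congrArg (vp p) (commutator T).card_eq_card_quotient_mul_card_subgroup
        rw [show Nat.card (T ⧸ commutator T) = p ^ mA from hmA] at h3
        simp only [vp, hj₀, Nat.factorization_mul (pow_ne_zero _ (Fact.out : p.Prime).ne_zero) Nat.card_pos.ne',
          Finsupp.add_apply, Nat.Prime.factorization_pow (Fact.out : p.Prime), Finsupp.single_eq_same] at h2 h3 hb
        omega
      have hN := hS.card_elementary hEa hE2 hEc
      omega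
    -- through the Fitting subgroup
    set F := (Cfsg.fittingSubgroup W).map W.subtype with hF
    have hFE : ∀ f ∈ F, ∀ e ∈ E, f * e = e * f := by
      intro f hf e he
      obtain ⟨f, hf, rfl⟩ := hf
      have hle : Cfsg.fittingSubgroup W ≤ (centralizer ({e} : Set G)).subgroupOf W := by
        rw [CfsgLib.Core.fittingSubgroup_eq_iSup_pCore]
        refine iSup_le fun p => ?_
        intro x hx
        haveI := Fact.mk p.2
        exact mem_centralizer_singleton_iff.2 (hcore p x ⟨x, hx, rfl⟩ e he)
      exact mem_centralizer_singleton_iff.1 (hle hf)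
    intro w hw e he
    have hcop : (Nat.card (zpowers e)).Coprime (Nat.card W) := by
      exact Nat.Coprime.coprime_dvd_left
        (show Nat.card (zpowers e) ∣ 2 by
          rw [Nat.card_zpowers]; exact orderOf_dvd_of_pow_eq_one (by rw [pow_two, hE2 e he]))
        (Nat.coprime_two_left.2 (core_odd a))
    have hAW : zpowers e ≤ normalizer (W : Set G) := zpowers_le.2 (hEn e he)
    -- `c = e w e⁻¹ w⁻¹` centralises `F(W)`
    set c : W := ⟨e * w * e⁻¹ * w⁻¹, mul_mem ((mem_normalizer_iff.1 (hEn e he) w).1 hw) (inv_mem hw)⟩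
    have hcF : c ∈ centralizer (Cfsg.fittingSubgroup W : Set W) := by
      rw [mem_centralizer_iff]
      intro f hf
      refine Subtype.ext ?_
      show (f : G) * (e * w * e⁻¹ * w⁻¹) = e * w * e⁻¹ * w⁻¹ * f
      have h1 : ∀ g ∈ F, g * e = e * g := fun g hg => hFE g hg e he
      have hFn : (f : G) ∈ F := ⟨f, hf, rfl⟩
      have hwf : w⁻¹ * f * w ∈ F := by
        refine ⟨⟨w, hw⟩⁻¹ * f * ⟨w, hw⟩, ?_, rfl⟩
        simpa using (inferInstance : (Cfsg.fittingSubgroup W).Normal).conj_mem f hf ⟨w, hw⟩⁻¹
      have a1 : Commute (f : G) e := h1 _ hFn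
      have a2 : (w⁻¹ * f * w) * e = e * (w⁻¹ * f * w) := h1 _ hwf
      calc (f : G) * (e * w * e⁻¹ * w⁻¹) = e * f * w * e⁻¹ * w⁻¹ := by
            simp only [← mul_assoc]; rw [a1.eq]
        _ = e * w * ((w⁻¹ * f * w) * e⁻¹) * w⁻¹ := by group
        _ = e * w * (e⁻¹ * (w⁻¹ * f * w)) * w⁻¹ := by
            rw [(Commute.inv_right (show Commute (w⁻¹ * (f : G) * w) e from a2)).eq]
        _ = e * w * e⁻¹ * w⁻¹ * f := by group
    have hcFit : c ∈ Cfsg.fittingSubgroup W := CfsgLib.Components.centralizer_fitting_le_of_isSolvable hcF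
    have hce : (c : G) * e = e * c := hFE _ ⟨c, hcFit, rfl⟩ e he
    -- so `c` is inverted and centralised
    have hcc : (c : G) * (c : G) = 1 := by
      have he2 : e⁻¹ = e := inv_eq_of_mul_eq_one_right (hE2 e he)
      have h1 : e * (c : G) * e⁻¹ = (c : G)⁻¹ := by
        show e * (e * w * e⁻¹ * w⁻¹) * e⁻¹ = (e * w * e⁻¹ * w⁻¹)⁻¹
        simp only [mul_inv_rev, inv_inv, he2, ← mul_assoc, hE2 e he, one_mul]
      rw [← hce, mul_inv_cancel_right] at h1
      exact mul_eq_one_iff_eq_inv.2 h1
    have hc1 : (c : G) = 1 := orderOf_eq_one_iff.1 (Nat.eq_one_of_dvd_coprimes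
      (Nat.coprime_two_left.2 (core_odd a)) (orderOf_dvd_of_pow_eq_one (by rw [pow_two, hcc]))
      (orderOf_dvd_natCard _ c.2))
    have h : e * w * e⁻¹ * w⁻¹ = 1 := hc1
    rw [mul_inv_eq_one, mul_inv_eq_iff_eq_mul] at h
    exact h.symm
  obtain ⟨e, he, hte⟩ := hEc t ht
  have hee := hE2 e he
  have hte' : t = (t * e) * e := by rw [mul_assoc, hee, mul_one]
  -- `t e` is an element of the core commuting with `e` and of order at most two
  have hc : (t * e) * e = e * (t * e) := hEW _ hte e he
  have h2 : (t * e) * (t * e) = 1 := by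
    calc (t * e) * (t * e) = (t * e) * (t * e) * (e * e) := by rw [hee, mul_one]
      _ = ((t * e) * e) * ((t * e) * e) := by
        rw [mul_assoc (t * e) e, ← mul_assoc e (t * e), ← hc]
        group
      _ = 1 := by rw [← hte', involution_sq ht.1]
  have h1 : t * e = 1 := orderOf_eq_one_iff.1 (Nat.eq_one_of_dvd_coprimes
    (Nat.coprime_two_left.2 (core_odd a)) (orderOf_dvd_of_pow_eq_one (by rw [pow_two, h2]))
    (orderOf_dvd_natCard _ hte))
  have : t = e := by rw [hte', h1, one_mul]
  rw [this]
  exact hEW w hw e he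

theorem commute_core (hsmall : SmallerOK.{u} (Nat.card G))
    (hfaith : ∀ g : G, (∀ x : Ω, g • x = x) → g = 1) {a : Ω} (hsol : SolvMod G a) {t : G}
    (ht : InvAt t a) {w : G} (hw : w ∈ core G a) : w * t = t * w :=
  hS.commute_core' (hS.cardOK_of_solvMod hsmall hsol) hfaith ht hw

end Setting

end CfsgLib.Bender
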