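import Cfsg.Agent.Lib.Bender.Moves

/-!
Owner: helper29. An odd `p`-group fixing no involution image at a point has at most two fixed points.
-/

set_option autoImplicit false
set_option linter.style.haveILetI false
set_option linter.unusedSectionVars false

namespace CfsgLib.Bender

open Subgroup MulAction
open CfsgLib.Signalizer (involution_sq involution_inv orderOf_eq_two_of involution_ne_one)

variable {G Ω : Type*} [Group G] [Finite G] [MulAction G Ω] [Finite Ω]
variable (hS : Setting G Ω) {p : ℕ} [Fact p.Prime]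
include hS

/-- The hypothesis of the induction: no larger class group has three fixed points. -/
def LargerOK (G : Type*) (Ω : Type*) [Group G] [Finite G] [MulAction G Ω] (p : ℕ) (R : Subgroup G) :
    Prop :=
  ∀ S : Subgroup G, IsPGroup p S → R ≤ S → R ≠ S → ∀ a b c : Ω, IsClassAt a S → a ≠ b → a ≠ c →
    b ≠ c → S ≤ stabilizer G b → S ≤ stabilizer G c → False

namespace Setting

variable {R : Subgroup G} (hR : IsPGroup p R) (hmax : LargerOK G Ω p R)
include hR hmax

/-- If `R` is not Sylow in a two-point stabiliser, its normaliser there fixes exactly the two points. -/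
theorem full_of_not_syl {a b : Ω} (ha : IsClassAt a R) (hab : a ≠ b) (hb : R ≤ stabilizer G b)
    (hsyl : ¬ IsSyl p R (pairStab G a b)) :
    ∃ P N : Subgroup G, IsSyl p P (pairStab G a b) ∧ R ≤ P ∧ N = P ⊓ normalizer (R : Set G) ∧
      ∀ y : Ω, N ≤ stabilizer G y → y = a ∨ y = b := by
  obtain ⟨P, hP, hRP⟩ := exists_isSyl_ge hR (le_inf ha.1 hb)
  have hne : R ≠ P := fun h => hsyl (h ▸ hP)
  obtain ⟨g, hgP, hgn, hg⟩ := exists_mem_normalizer_notMem hP.isPGroup hRP hne
  have hRN : R ≤ P ⊓ normalizer (R : Set G) := le_inf hRP le_normalizer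
  have hneN : R ≠ P ⊓ normalizer (R : Set G) := fun h => hg (by rw [h]; exact ⟨hgP, hgn⟩)
  refine ⟨P, _, hP, hRP, rfl, fun y hy => ?_⟩
  by_contra hcon
  push Not at hcon
  have hNpair : P ⊓ normalizer (R : Set G) ≤ pairStab G a b := inf_le_left.trans hP.le
  exact hmax _ (hP.isPGroup.to_le inf_le_left) hRN hneN a b y
    (ha.mono hRN (hNpair.trans inf_le_left)) hab (Ne.symm hcon.1) (Ne.symm hcon.2)
    (hNpair.trans inf_le_right) hy

/-- The full points lie in one orbit. -/
theorem full_orbit {a b c : Ω} (hab : a ≠ b) (hac : a ≠ c) {N N' : Subgroup G}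
    (hN : IsPGroup p N) (hNK : N ≤ normalizer (R : Set G)) (hNa : N ≤ stabilizer G a)
    (hNb : N ≤ stabilizer G b) (hfN : ∀ y : Ω, N ≤ stabilizer G y → y = a ∨ y = b)
    (hN' : IsPGroup p N') (hN'K : N' ≤ normalizer (R : Set G)) (hN'a : N' ≤ stabilizer G a)
    (hN'c : N' ≤ stabilizer G c) (hfN' : ∀ y : Ω, N' ≤ stabilizer G y → y = a ∨ y = c) :
    ∃ k ∈ normalizer (R : Set G), k • a = a ∧ k • b = c := by
  set Ka : Subgroup G := normalizer (R : Set G) ⊓ stabilizer G a
  obtain ⟨T, hT, hNT⟩ := exists_isSyl_ge (H := Ka) hN (le_inf hNK hNa)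
  obtain ⟨T', hT', hNT'⟩ := exists_isSyl_ge (H := Ka) hN' (le_inf hN'K hN'a)
  have hTb := le_stab_of_chain hT.isPGroup hab (hT.le.trans inf_le_right) N hNT hNb hfN
  have hT'c := le_stab_of_chain hT'.isPGroup hac (hT'.le.trans inf_le_right) N' hNT' hN'c hfN'
  obtain ⟨k, hk, hkT⟩ := hT.exists_conj hT'
  refine ⟨k, hk.1, hk.2, ?_⟩
  have hle : T' ≤ stabilizer G (k • b) := by
    rw [stabilizer_smul_eq, ← hkT]
    exact map_mono hTb
  rcases hfN' _ (hNT'.trans hle) with h | h
  · exact absurd (smul_left_cancel k (h.trans (show k • a = a from hk.2).symm)) hab.symm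
  · exact h

/-- A point without the class property is the centre of an involution normalising `R`. -/
theorem centre_of_fixesMod {a b : Ω} (hp : Odd p) (ha : IsClassAt a R) (hab : a ≠ b)
    (hb : R ≤ stabilizer G b) (hf : FixesMod b R) :
    ∃ u : G, InvAt u b ∧ u ∈ normalizer (R : Set G) ∧ IsSyl p R (R ⊔ core G b) ∧
      ¬ IsSyl p R (pairStab G a b) ∧
      ∃ N : Subgroup G, IsPGroup p N ∧ N ≤ normalizer (R : Set G) ∧ N ≤ stabilizer G a ∧
        N ≤ stabilizer G b ∧ ∀ y : Ω, N ≤ stabilizer G y → y = a ∨ y = b := by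
  by_cases hns : IsSyl p R (pairStab G a b)
  · obtain ⟨v, hvR, hv, hva⟩ := hS.swap_of_syl hab hns
    have := IsClassAt.normalizer_smul hvR ha
    rw [hva] at this
    exact absurd hf this.2
  obtain ⟨P, N, hP, hRP, hN, hfN⟩ := hS.full_of_not_syl hR hmax ha hab hb hns
  subst hN
  have hfP : ∀ y : Ω, P ≤ stabilizer G y → y = a ∨ y = b := fun y hy => hfN y (inf_le_left.trans hy)
  obtain ⟨hPa, hPb⟩ := hS.syl_stab_of_fix hab hP hfP
  obtain ⟨t, ht, hft⟩ := hf
  set W := core G b with hW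
  set Γ := R ⊔ W with hΓdef
  have hΓb : Γ ≤ stabilizer G b := sup_le hb (core_le b)
  have hΓfix : ∀ g ∈ Γ, g * t * g⁻¹ * t ∈ core G b := fun g hg =>
    ((mem_imgFix ht).1 ((sup_le (fun r hr => (mem_imgFix ht).2 ⟨hb hr, hft r hr⟩)
      (core_le_imgFix ht) : Γ ≤ imgFix G ht) hg)).2
  have hPn : P ≤ normalizer (W : Set G) := hPb.le.trans (le_normalizer_core b)
  have hRn : R ≤ normalizer (W : Set G) := hRP.trans hPn
  have hA : IsSyl p (P ⊓ W) W := hPb.inf_of_le_normalizer (core_le b) (le_normalizer_core b)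
  have hRA : R ≤ normalizer ((P ⊓ W : Subgroup G) : Set G) := fun r hr => by
    refine mem_normalizer_of_map_conj_eq ?_
    rw [Subgroup.map_inf _ _ _ (MulAut.conj r).injective,
      map_conj_eq_of_mem_normalizer (le_normalizer (hRP hr)), map_conj_eq_of_mem_normalizer (hRn hr)]
  set Rp := R ⊔ (P ⊓ W) with hRp
  have hRpP : Rp ≤ P := sup_le hRP inf_le_left
  have hRpΓ : Rp ≤ Γ := sup_le_sup_left inf_le_right R
  have hRpSyl : IsSyl p Rp Γ := by
    refine ⟨hRpΓ, ?_⟩
    rw [card_eq_pow (hP.isPGroup.to_le hRpP)]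
    congr 1
    refine le_antisymm (vp_card_mono hRpΓ) ?_
    have e1 := congrArg (vp p) (CfsgLib.Core.card_sup_mul_card_inf R W hRn)
    have e2 := congrArg (vp p) (CfsgLib.Core.card_sup_mul_card_inf R (P ⊓ W) hRA)
    simp only [vp, Nat.factorization_mul Nat.card_pos.ne' Nat.card_pos.ne', Finsupp.add_apply] at e1 e2
    have e3 := vp_card_mono (p := p) (inf_le_inf_left R (inf_le_right : P ⊓ W ≤ W))
    have e4 := hA.vp_eq
    simp only [vp, ← hΓdef, ← hRp] at e1 e2 e3 e4 ⊢
    omega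
  obtain ⟨u, hu, huR, -⟩ := hS.exists_invAt_normalizer hp hΓb le_sup_right ht hΓfix hRpSyl
  have hRa : Rp ≤ stabilizer G a := hRpP.trans hPa.le
  have hRb : Rp ≤ stabilizer G b := hRpP.trans hPb.le
  have heq : R = Rp := by
    by_contra hne'
    exact hmax Rp (hP.isPGroup.to_le hRpP) le_sup_left hne' a b (u • a) (ha.mono le_sup_left hRa)
      hab (Ne.symm (hS.ne_of_inv hu hab))
      (fun h => hab (smul_left_cancel u (by rw [← h, hu.2])))
      hRb (smul_of_mem_normalizer huR hRa)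
  rw [← heq] at huR hRpSyl
  exact ⟨u, hu, huR, hRpSyl, hns, _, hP.isPGroup.to_le inf_le_left, inf_le_right,
    inf_le_left.trans hPa.le, inf_le_left.trans hPb.le, hfN⟩

/-- All fixed points have the class property. -/
theorem class_of_fix {a b : Ω} (hp : Odd p) (ha : IsClassAt a R) (hb : R ≤ stabilizer G b) :
    IsClassAt b R := by
  refine ⟨hb, fun hf => ?_⟩
  have hab : a ≠ b := fun h => ha.2 (h ▸ hf)
  obtain ⟨u, hu, huR, hRW, hns, N, hN, hNK, hNa, hNb, hfN⟩ := hS.centre_of_fixesMod hR hmax hp ha hab hb hf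
  set c := u • a with hc
  have hca : c ≠ a := hS.ne_of_inv hu hab
  have hcb : c ≠ b := fun h => hab (smul_left_cancel u (h.trans hu.2.symm))
  have hcl : IsClassAt c R := IsClassAt.normalizer_smul huR ha
  by_cases hsyl : IsSyl p R (pairStab G a c)
  · have h1 := hsyl.inf_centralizer (hS.odd_pairStab hca.symm) hu.1
      (hS.swapper_normalizer hu.1 rfl) huR
    have e1 := h1.vp_eq
    have e2 := hsyl.vp_eq
    have e3 := hS.vp_swapper hca.symm (p := p) hu.1 hc.symm
    have e4 := hS.vp_inverted hb hp hRW hu huR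
    have e5 := hS.vp_card_invAt (p := p) hu
    rw [← hS.card_invAt_eq a b] at e5
    have e6 := (Fact.out : p.Prime).factorization_pos_of_dvd (hS.card_img_ne_zero b)
      (hS.card_img_eq a b ▸ hS.dvd_card_img hR ha)
    simp only [vp] at e1 e2 e3 e4 e5 e6
    omega
  · obtain ⟨P', N', hP', -, hN', hfN'⟩ := hS.full_of_not_syl hR hmax ha hca.symm hcl.1 hsyl
    subst hN'
    obtain ⟨k, hkR, hka, hkb⟩ := hS.full_orbit hR hmax hab hca.symm hN hNK hNa hNb hfN
      (hP'.isPGroup.to_le inf_le_left) inf_le_right (inf_le_left.trans (hP'.le.trans inf_le_left))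
      (inf_le_left.trans (hP'.le.trans inf_le_right)) hfN'
    have := IsClassAt.normalizer_smul (inv_mem hkR) hcl
    rw [← hkb, inv_smul_smul] at this
    exact this.2 hf

/-- No involution normalising `R` has its centre among the fixed points. -/
theorem no_centre {a x : Ω} (hp : Odd p) (ha : IsClassAt a R) (hx : R ≤ stabilizer G x) {u : G}
    (hu : InvAt u x) : u ∉ normalizer (R : Set G) := fun hun =>
  hS.not_class_of_normalizes (by rw [card_eq_pow hR]; exact hp.pow) hu hun
    (hS.class_of_fix hR hmax hp ha hx)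

/-- Points which are not swapped in the normaliser lie in one orbit. -/
theorem exists_orbit_of_no_swap {a b c : Ω} (ha : IsClassAt a R) (hab : a ≠ b) (hac : a ≠ c)
    (hb : R ≤ stabilizer G b) (hc : R ≤ stabilizer G c)
    (hnb : ∀ u ∈ normalizer (R : Set G), orderOf u = 2 → u • a ≠ b)
    (hnc : ∀ u ∈ normalizer (R : Set G), orderOf u = 2 → u • a ≠ c) :
    ∃ k ∈ normalizer (R : Set G), k • a = a ∧ k • b = c := by
  have hsb : ¬ IsSyl p R (pairStab G a b) := fun h =>
    let ⟨u, hu, ho, hua⟩ := hS.swap_of_syl hab h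
    hnb u hu ho hua
  have hsc : ¬ IsSyl p R (pairStab G a c) := fun h =>
    let ⟨u, hu, ho, hua⟩ := hS.swap_of_syl hac h
    hnc u hu ho hua
  obtain ⟨P, N, hP, -, hN, hfN⟩ := hS.full_of_not_syl hR hmax ha hab hb hsb
  obtain ⟨P', N', hP', -, hN', hfN'⟩ := hS.full_of_not_syl hR hmax ha hac hc hsc
  subst hN hN'
  exact hS.full_orbit hR hmax hab hac (hP.isPGroup.to_le inf_le_left) inf_le_right
    (inf_le_left.trans (hP.le.trans inf_le_left)) (inf_le_left.trans (hP.le.trans inf_le_right)) hfN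
    (hP'.isPGroup.to_le inf_le_left) inf_le_right (inf_le_left.trans (hP'.le.trans inf_le_left))
    (inf_le_left.trans (hP'.le.trans inf_le_right)) hfN'

/-- An invariant set of fixed points without swappers has at most two points. -/
theorem no_three_without_swap {a₀ : Ω} (hp : Odd p) (ha₀ : IsClassAt a₀ R) {O : Set Ω}
    (hO : ∀ x ∈ O, R ≤ stabilizer G x)
    (hinv : ∀ k ∈ normalizer (R : Set G), ∀ x ∈ O, k • x = x → ∀ y ∈ O, k • y ∈ O)
    (hns : ∀ u ∈ normalizer (R : Set G), orderOf u = 2 → ∀ x ∈ O, ∀ y ∈ O, x ≠ y → u • x ≠ y)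
    {a b c : Ω} (ha : a ∈ O) (hb : b ∈ O) (hc : c ∈ O) (hab : a ≠ b) (hac : a ≠ c) (hbc : b ≠ c) :
    False := by
  obtain ⟨k, hk, hkc, hka⟩ := hS.exists_orbit_of_no_swap hR hmax (hS.class_of_fix hR hmax hp ha₀ (hO c hc))
    hac.symm hbc.symm (hO a ha) (hO b hb) (fun u hu ho => hns u hu ho c hc a ha hac.symm)
    (fun u hu ho => hns u hu ho c hc b hb hbc.symm)
  have hkb : k • b ∈ O := hinv k hk c hc hkc b hb
  have hne : k • b ≠ b := fun h => hab (smul_left_cancel k (hka.trans h.symm))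
  obtain ⟨k', hk', hk'b, hk'kb⟩ := hS.exists_orbit_of_no_swap hR hmax
    (hS.class_of_fix hR hmax hp ha₀ (hO b hb)) hne.symm hab.symm (hO _ hkb) (hO a ha)
    (fun u hu ho => hns u hu ho b hb _ hkb hne.symm) (fun u hu ho => hns u hu ho b hb a ha hab.symm)
  obtain ⟨u, hu, ho, hua⟩ := hS.exists_inv_of_swap (H := normalizer (R : Set G)) (mul_mem hk' hk) hab
    (by rw [mul_smul, hka, hk'b]) (by rw [mul_smul, hk'kb])
  exact hns u hu ho a ha b hb hab hua

theorem fix_le_two_step {a b c : Ω} (hp : Odd p) (ha : IsClassAt a R) (hab : a ≠ b) (hac : a ≠ c)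
    (hbc : b ≠ c) (hb : R ≤ stabilizer G b) (hc : R ≤ stabilizer G c) : False := by
  set K := normalizer (R : Set G)
  by_cases hinv : ∀ u ∈ K, orderOf u ≠ 2
  · exact hS.no_three_without_swap hR hmax hp ha (O := {x | R ≤ stabilizer G x}) (fun x hx => hx)
      (fun k hk _ _ _ y hy => smul_of_mem_normalizer hk hy) (fun u hu ho => absurd ho (hinv u hu))
      ha.1 hb hc hab hac hbc
  push Not at hinv
  obtain ⟨w, hwK, hw⟩ := hinv
  by_cases hfour : ∃ e ∈ K, ∃ f ∈ K, orderOf e = 2 ∧ orderOf f = 2 ∧ e * f = f * e ∧ e ≠ f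
  · obtain ⟨e, heK, f, hfK, he, hf, hef, hne⟩ := hfour
    obtain ⟨y, hy⟩ := hS.fix_exists he
    have hfy : f • y = y := by
      refine hS.fix_unique (t := e) ⟨he, ?_⟩ ⟨he, hy⟩
      rw [← mul_smul, hef, mul_smul, hy]
    refine hS.no_centre hR hmax hp ha ?_ ⟨he, hy⟩ heK
    refine le_of_four_centralizers (by rw [card_eq_pow hR]; exact hp.pow) he hf hef hne heK hfK
      fun r _ g hg hrg => ?_
    have hgy : InvAt g y := by
      rcases hg with rfl | rfl | rfl
      · exact ⟨he, hy⟩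
      · exact ⟨hf, hfy⟩
      · exact hS.invAt_mul ⟨he, hy⟩ ⟨hf, hfy⟩ hne hef
    exact hS.fix_unique (t := g) ⟨hgy.1, by rw [← mul_smul, ← hrg, mul_smul, hgy.2]⟩ hgy
  push Not at hfour
  set O : Subgroup G := (Cfsg.oddCore ↥K).map K.subtype with hOdef
  have hOodd : Odd (Nat.card O) := by
    rw [hOdef, ← Nat.card_congr ((Cfsg.oddCore _).equivMapOfInjective _ K.subtype_injective).toEquiv]
    exact CfsgLib.ZStar.odd_card_oddCore _
  have hOK : O ≤ K := map_subtype_le _
  have hOn : ∀ k ∈ K, ∀ o ∈ O, k * o * k⁻¹ ∈ O := by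
    rintro k hk _ ⟨o, ho, rfl⟩
    exact ⟨⟨k, hk⟩ * o * ⟨k, hk⟩⁻¹, (inferInstance : (Cfsg.oddCore ↥K).Normal).conj_mem o ho _, rfl⟩
  have hcong : ∀ u ∈ K, orderOf u = 2 → u * w ∈ O := fun u hu ho =>
    mul_mem_oddCore_of_rank_one K (fun e he f hf ho1 ho2 h => hfour e he f hf ho1 ho2 h) hu hwK ho hw
  -- an involution moves no fixed point inside its orbit under `O`
  have hsame : ∀ u ∈ K, orderOf u = 2 → ∀ x : Ω, R ≤ stabilizer G x → ∀ o ∈ O, o • x ≠ u • x := by
    intro u hu ho x hx o hoO hox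
    set h := o⁻¹ * u with hdef
    have hhK : h ∈ K := mul_mem (inv_mem (hOK hoO)) hu
    have hhx : h • x = x := by rw [hdef, mul_smul, ← hox, inv_smul_smul]
    have hh2 : h * h ∈ O := by
      have : h * h = o⁻¹ * (u * o⁻¹ * u⁻¹) := by
        rw [hdef, involution_inv ho]; group
      rw [this]
      exact mul_mem (inv_mem hoO) (hOn u hu _ (inv_mem hoO))
    have heven : Even (orderOf h) := by
      rw [← Nat.not_odd_iff_even]
      rintro ⟨n, hn⟩
      have h1 : h = (h * h) ^ (n + 1) := by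
        rw [← pow_two, ← pow_mul, show 2 * (n + 1) = 2 * n + 1 + 1 by ring, pow_succ, ← hn,
          pow_orderOf_eq_one, one_mul]
      have h2 : u ∈ O := by
        have h3 : h ∈ O := h1 ▸ O.pow_mem hh2 _
        have h4 := mul_mem hoO h3
        rwa [hdef, mul_inv_cancel_left] at h4
      exact not_mem_of_odd hOodd ho h2
    obtain ⟨m, hm⟩ := heven
    have hm0 : 0 < m := by have := orderOf_pos h; omega
    have hord : orderOf (h ^ m) = 2 := by
      rw [orderOf_pow_of_dvd hm0.ne' ⟨2, by omega⟩, hm]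
      exact Nat.div_eq_of_eq_mul_left hm0 (by omega)
    exact hS.no_centre hR hmax hp ha hx
      ⟨hord, (stabilizer G x).pow_mem hhx m⟩ (K.pow_mem hhK m)
  -- the orbits of `O` on the fixed points are trivial
  have htriv : ∀ x : Ω, R ≤ stabilizer G x → ∀ o ∈ O, o • x = x := by
    intro x hx o ho
    by_contra hne
    have ho2 : (o * o) • x ≠ x := by
      intro h
      obtain ⟨n, hn⟩ := hOodd.of_dvd_nat (O.orderOf_dvd_natCard ho)
      have h1 : ((o * o) ^ (n + 1)) • x = x := (stabilizer G x).pow_mem h _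
      rw [← pow_two, ← pow_mul, show 2 * (n + 1) = 2 * n + 1 + 1 by ring, pow_succ, ← hn,
        pow_orderOf_eq_one, one_mul] at h1
      exact hne h1
    refine hS.no_three_without_swap hR hmax hp ha (O := {y | ∃ o' ∈ O, o' • x = y}) ?_ ?_ ?_
      ⟨1, one_mem _, one_smul _ _⟩ ⟨o, ho, rfl⟩ ⟨o * o, mul_mem ho ho, rfl⟩ (Ne.symm hne) ho2.symm ?_
    · rintro _ ⟨o', ho', rfl⟩
      exact smul_of_mem_normalizer (hOK ho') hx
    · rintro k hk _ ⟨o₁, ho₁, rfl⟩ hkx _ ⟨o₂, ho₂, rfl⟩
      refine ⟨(k * (o₂ * o₁⁻¹) * k⁻¹) * o₁, mul_mem (hOn k hk _ (mul_mem ho₂ (inv_mem ho₁))) ho₁, ?_⟩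
      rw [mul_smul, mul_smul, mul_smul, inv_smul_eq_iff.2 hkx.symm, mul_smul, inv_smul_smul]
    · rintro u hu hou _ ⟨o₁, ho₁, rfl⟩ _ ⟨o₂, ho₂, rfl⟩ - h
      refine hsame u hu hou (o₁ • x) (smul_of_mem_normalizer (hOK ho₁) hx) (o₂ * o₁⁻¹)
        (mul_mem ho₂ (inv_mem ho₁)) ?_
      rw [h, mul_smul, inv_smul_smul]
    · intro h
      rw [mul_smul] at h
      exact hne (smul_left_cancel o h.symm)
  have hwa : ∀ u ∈ K, orderOf u = 2 → ∀ x : Ω, R ≤ stabilizer G x → u • x = w • x := by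
    intro u hu ho x hx
    have h := htriv (w • x) (smul_of_mem_normalizer hwK hx) _ (hcong u hu ho)
    rwa [mul_smul, ← mul_smul w, involution_sq hw, one_smul] at h
  -- all fixed points other than `a` equal `w • a`
  have key : ∀ y : Ω, R ≤ stabilizer G y → a ≠ y → y = w • a := by
    intro y hy hay
    by_cases hsyl : IsSyl p R (pairStab G a y)
    · obtain ⟨u, hu, ho, hua⟩ := hS.swap_of_syl hay hsyl
      rw [← hua, hwa u hu ho a ha.1]
    obtain ⟨P, N, hP, -, hN, hfN⟩ := hS.full_of_not_syl hR hmax ha hay hy hsyl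
    have hNwa : N ≤ stabilizer G (w • a) := by
      intro k hk
      have hkK : k ∈ K := (hN ▸ hk : k ∈ P ⊓ normalizer (R : Set G)).2
      have hka : k • a = a := (hP.le (hN ▸ hk : k ∈ P ⊓ normalizer (R : Set G)).1).1
      show k • w • a = w • a
      have h := hwa (k * w * k⁻¹) (mul_mem (mul_mem hkK hwK) (inv_mem hkK))
        (by rw [CfsgLib.Signalizer.orderOf_conj]; exact hw) a ha.1
      rwa [mul_smul, inv_smul_eq_iff.2 hka.symm, mul_smul] at h
    rcases hfN _ hNwa with h | h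
    · exact absurd ⟨hw, h⟩ (fun hi : InvAt w a => hS.no_centre hR hmax hp ha ha.1 hi hwK)
    · exact h.symm
  exact hbc ((key b hb hab).trans (key c hc hac).symm)

end Setting

namespace Setting

/-- An odd `p`-group fixing no image of an involution at one of its fixed points has at most two. -/
theorem fix_le_two (hp : Odd p) :
    ∀ R : Subgroup G, IsPGroup p R → ∀ a b c : Ω, IsClassAt a R → a ≠ b → a ≠ c → b ≠ c →
      R ≤ stabilizer G b → R ≤ stabilizer G c → False := by
  intro R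
  induction h : (Nat.card G - Nat.card R) using Nat.strong_induction_on generalizing R with
  | _ m ih =>
    intro hR a b c ha hab hac hbc hb hc
    refine hS.fix_le_two_step hR ?_ hp ha hab hac hbc hb hc
    intro S hS' hle hne
    have h1 : Nat.card R < Nat.card S := by
      by_contra hcon
      exact hne (eq_of_le_of_card_ge hle (not_lt.1 hcon))
    have h2 := Nat.le_of_dvd Nat.card_pos S.card_subgroup_dvd_card
    exact ih _ (by omega) S rfl hS'

end Setting

end CfsgLib.Bender
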