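import Cfsg.Agent.Lib.Bender.GroupLemmas

/-!
Owner: helper29. Fixed point free normal `p`-parts of solvable transitive groups.
-/

set_option autoImplicit false
set_option linter.style.haveILetI false
set_option linter.unusedSectionVars false

namespace CfsgLib.Bender

open Subgroup MulAction

/-- A nontrivial invariant solvable subgroup of a transitive group contains an invariant `p`-subgroup
without fixed points, and then `p` divides the number of points. -/
theorem exists_fixedFree_part {α : Type*} [Finite α] {H Y : Subgroup (Equiv.Perm α)}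
    (hn : H ≤ normalizer (Y : Set (Equiv.Perm α))) (hsol : Group.IsSolvable Y)
    (hne : Y ≠ ⊥) (htr : ∀ x y : α, ∃ h ∈ H, h x = y) :
    ∃ p : ℕ, p.Prime ∧ p ∣ Nat.card α ∧ ∃ A : Subgroup (Equiv.Perm α),
      A ≤ Y ∧ IsPGroup p A ∧ H ≤ normalizer (A : Set (Equiv.Perm α)) ∧ ∀ x : α, ∃ a ∈ A, a x ≠ x := by
  classical
  obtain ⟨Z, ⟨hZY, hZn, hZne⟩, hmin⟩ := WellFounded.has_min
    (wellFounded_lt (α := Subgroup (Equiv.Perm α)))
    {Z | Z ≤ Y ∧ H ≤ normalizer (Z : Set (Equiv.Perm α)) ∧ Z ≠ ⊥} ⟨Y, le_rfl, hn, hne⟩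
  have hcomm : ⁅Z, Z⁆ = ⊥ := by
    by_contra hc
    have hle : ⁅Z, Z⁆ ≤ Z := commutator_le.2 fun a ha b hb => by
      rw [commutatorElement_def]
      exact Z.mul_mem (Z.mul_mem (Z.mul_mem ha hb) (Z.inv_mem ha)) (Z.inv_mem hb)
    have hlt : ⁅Z, Z⁆ < Z := by
      haveI : Group.IsSolvable Z := CfsgLib.Core.isSolvable_of_le hsol hZY
      haveI : Nontrivial Z := Z.nontrivial_iff_ne_bot.2 hZne
      have h := Group.IsSolvable.commutator_lt_top_of_nontrivial Z
      refine lt_of_le_of_ne hle fun e => h.ne ?_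
      apply map_injective Z.subtype_injective
      rw [commutator_def, map_commutator, ← MonoidHom.range_eq_map, range_subtype, e]
    refine hmin _ ⟨hle.trans hZY, fun g hg => ?_, hc⟩ hlt
    refine mem_normalizer_of_map_conj_eq ?_
    rw [map_commutator, map_conj_eq_of_mem_normalizer (hZn hg)]
  have hab : ∀ a ∈ Z, ∀ b ∈ Z, a * b = b * a := fun a ha b hb => by
    have h := hcomm ▸ commutator_mem_commutator ha hb
    rwa [mem_bot, commutatorElement_eq_one_iff_mul_comm] at h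
  have h1 : Nat.card Z ≠ 1 := fun h => hZne (Subgroup.card_eq_one.1 h)
  obtain ⟨p, hp, hpd⟩ := Nat.exists_prime_and_dvd h1
  haveI := Fact.mk hp
  let A : Subgroup (Equiv.Perm α) :=
    { carrier := {a | a ∈ Z ∧ ∃ k : ℕ, a ^ p ^ k = 1}
      one_mem' := ⟨Z.one_mem, 0, by simp⟩
      mul_mem' := by
        rintro a b ⟨ha, k, hk⟩ ⟨hb, l, hl⟩
        refine ⟨Z.mul_mem ha hb, k + l, ?_⟩
        have e1 : a ^ p ^ (k + l) = 1 := by rw [pow_add, pow_mul, hk, one_pow]
        have e2 : b ^ p ^ (k + l) = 1 := by rw [pow_add, mul_comm, pow_mul, hl, one_pow]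
        rw [Commute.mul_pow (hab a ha b hb), e1, e2, one_mul]
      inv_mem' := by
        rintro a ⟨ha, k, hk⟩
        exact ⟨Z.inv_mem ha, k, by rw [inv_pow, hk, inv_one]⟩ }
  have hAn : H ≤ normalizer (A : Set (Equiv.Perm α)) := by
    intro h hh
    have key : ∀ g ∈ H, ∀ a ∈ A, g * a * g⁻¹ ∈ A := by
      rintro g hg a ⟨ha, k, hk⟩
      exact ⟨(mem_normalizer_iff.1 (hZn hg) a).1 ha, k, by rw [conj_pow, hk, mul_one, mul_inv_cancel]⟩
    rw [mem_normalizer_iff]
    refine fun a => ⟨key h hh a, fun ha => ?_⟩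
    have := key h⁻¹ (H.inv_mem hh) _ ha
    simpa [mul_assoc] using this
  obtain ⟨⟨a, haZ⟩, hao⟩ := exists_prime_orderOf_dvd_card' p hpd
  rw [Subgroup.orderOf_mk] at hao
  have haA : a ∈ A := ⟨haZ, 1, by rw [pow_one, ← hao, pow_orderOf_eq_one]⟩
  have hne' : a ≠ 1 := fun h => by rw [h, orderOf_one] at hao; exact hp.one_lt.ne' hao.symm
  have hfree : ∀ x : α, ∃ b ∈ A, b x ≠ x := by
    intro x
    by_contra hcon
    push Not at hcon
    refine hne' (Equiv.ext fun y => ?_)
    obtain ⟨h, hh, rfl⟩ := htr x y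
    have h2 := hcon _ ((mem_normalizer_iff''.1 (hAn hh) a).1 haA)
    show a (h x) = h x
    conv_rhs => rw [← h2]
    simp [Equiv.Perm.mul_apply]
  have hpg : IsPGroup p A := fun a => by
    obtain ⟨k, hk⟩ := a.2.2
    exact ⟨k, Subtype.ext (by simpa using hk)⟩
  refine ⟨p, hp, ?_, A, fun a ha => hZY ha.1, hpg, hAn, hfree⟩
  have h0 : fixedPoints A α = ∅ := by
    refine Set.eq_empty_of_forall_notMem fun x hx => ?_
    obtain ⟨b, hb, hbx⟩ := hfree x
    exact hbx (hx ⟨b, hb⟩)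
  have := hpg.card_modEq_card_fixedPoints α
  rw [h0, Nat.card_coe_set_eq, Set.ncard_empty] at this
  exact Nat.modEq_zero_iff_dvd.1 this

variable {G P' : Type*} [Group G] [Finite G] [Group P'] {p : ℕ} [Fact p.Prime]

/-- A normal `p`-subgroup of an image lies in the image of every Sylow subgroup. -/
theorem le_map_of_syl (f : G →* P') {S Z : Subgroup G} (hS : IsSyl p S Z) {A : Subgroup P'}
    (hA : A ≤ Z.map f) (hAp : IsPGroup p A) (hAn : Z.map f ≤ normalizer (A : Set P')) :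
    A ≤ S.map f := by
  obtain ⟨T, hT⟩ := (hS.isPGroup.of_equiv (subgroupOfEquivOfLe hS.le).symm).exists_le_sylow
  have hST : (T : Subgroup Z).map Z.subtype = S := by
    refine (hS.eq_of_le (T.isPGroup'.map _) ?_ (map_subtype_le _)).symm
    intro x hx
    exact ⟨⟨x, hS.le hx⟩, hT (mem_subgroupOf.2 hx), rfl⟩
  haveI : (A.subgroupOf (Z.map f)).Normal := normal_subgroupOf_of_le_normalizer hAn
  have hsur : Function.Surjective (f.subgroupMap Z) := f.subgroupMap_surjective Z
  intro a ha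
  have h := (hAp.of_equiv (subgroupOfEquivOfLe hA).symm).le_sylow_of_normal (T.mapSurjective hsur)
    (show (⟨a, hA ha⟩ : Z.map f) ∈ A.subgroupOf (Z.map f) from ha)
  obtain ⟨z, hz, he⟩ := h
  refine ⟨z, hST ▸ ⟨z, hz, rfl⟩, ?_⟩
  exact congrArg Subtype.val he

end CfsgLib.Bender
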