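import Cfsg.Agent.Lib.Bender.ClassFix
import Cfsg.Agent.Lib.Bender.PermParts
import Cfsg.Agent.S0205

/-!
Owner: helper29. One class of two-point stabilisers, the factorisation of a stabiliser by the kernel
on the involution images, and the symmetry of the kernel in a two-point stabiliser.
-/

set_option autoImplicit false
set_option linter.style.haveILetI false
set_option linter.unusedSectionVars false

namespace CfsgLib.Bender

open Subgroup MulAction
open CfsgLib.Signalizer (involution_sq involution_inv orderOf_eq_two_of involution_ne_one)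

variable {G Ω : Type*} [Group G] [Finite G] [MulAction G Ω] [Finite Ω]

variable (G) in
/-- The action of a stabiliser on the involution images. -/
def imgHom (x : Ω) : stabilizer G x →* Equiv.Perm (Img G x) :=
  MulAction.toPermHom (stabilizer G x) (Img G x)

variable (G) in
/-- The elements of a stabiliser fixing every involution at the point modulo the core. -/
def cmod (x : Ω) : Subgroup G := (imgHom G x).ker.map (stabilizer G x).subtype

theorem mem_cmod {x : Ω} {g : G} :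
    g ∈ cmod G x ↔ g • x = x ∧ ∀ t : G, InvAt t x → g * t * g⁻¹ * t ∈ core G x := by
  constructor
  · rintro ⟨g, hg, rfl⟩
    refine ⟨g.2, fun t ht => ?_⟩
    exact Quotient.exact (Equiv.ext_iff.1 (MonoidHom.mem_ker.1 hg) (img ht))
  · rintro ⟨hg, h⟩
    refine ⟨⟨g, hg⟩, MonoidHom.mem_ker.2 (Equiv.ext fun q => ?_), rfl⟩
    induction q using Quotient.inductionOn with
    | _ t => exact Quotient.sound (h t t.2)

theorem cmod_le (x : Ω) : cmod G x ≤ stabilizer G x := map_subtype_le _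

theorem core_le_cmod (x : Ω) : core G x ≤ cmod G x := fun _ hw =>
  mem_cmod.2 ⟨core_smul x hw, fun _ ht => ((mem_imgFix ht).1 (core_le_imgFix ht hw)).2⟩

theorem le_normalizer_cmod (x : Ω) : stabilizer G x ≤ normalizer (cmod G x : Set G) := by
  have key : ∀ g : G, g • x = x → ∀ c ∈ cmod G x, g * c * g⁻¹ ∈ cmod G x := by
    rintro g hg _ ⟨c, hc, rfl⟩
    exact ⟨⟨g, hg⟩ * c * ⟨g, hg⟩⁻¹, (inferInstance : (imgHom G x).ker.Normal).conj_mem c hc _, rfl⟩
  intro g hg
  rw [mem_normalizer_iff]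
  refine fun c => ⟨key g hg c, fun h => ?_⟩
  have := key g⁻¹ (inv_mem hg) _ h
  simpa [mul_assoc] using this

theorem cmod_conj_mem {x : Ω} {g c : G} (hg : g • x = x) (hc : c ∈ cmod G x) :
    g * c * g⁻¹ ∈ cmod G x :=
  (mem_normalizer_iff.1 (le_normalizer_cmod x hg) c).1 hc

theorem cmod_smul_mem {x : Ω} {c : G} (g : G) (hc : c ∈ cmod G x) :
    g * c * g⁻¹ ∈ cmod G (g • x) := by
  obtain ⟨hcx, h⟩ := mem_cmod.1 hc
  refine mem_cmod.2 ⟨by rw [mul_smul, mul_smul, inv_smul_smul, hcx], fun t ht => ?_⟩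
  have ht' : InvAt (g⁻¹ * t * g) x := by
    have := ht.conj g⁻¹
    rwa [inv_smul_smul, inv_inv] at this
  have := core_smul_mem g (h _ ht')
  simpa [mul_assoc] using this

/-- The stabiliser acts on the involution images as a solvable group. -/
def SolvMod (G : Type*) {Ω : Type*} [Group G] [Finite G] [MulAction G Ω] [Finite Ω] (x : Ω) : Prop :=
  Group.IsSolvable (imgHom G x).range

variable (hS : Setting G Ω)
include hS

namespace Setting

theorem invAt_mem_cmod {x : Ω} {s : G} (hs : InvAt s x) : s ∈ cmod G x :=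
  mem_cmod.2 ⟨hs.2, fun t ht => by
    rw [involution_inv hs.1]; exact hS.comm_mod hs ht⟩

theorem exists_odd_prime_img : ∃ p : ℕ, p.Prime ∧ Odd p ∧ ∀ x : Ω, p ∣ Nat.card (Img G x) := by
  by_cases h : Nonempty Ω
  · obtain ⟨x⟩ := h
    obtain ⟨p, hp, ho, hd⟩ := hS.exists_prime_dvd_img x
    exact ⟨p, hp, ho, fun y => hS.card_img_eq x y ▸ hd⟩
  · exact ⟨3, Nat.prime_three, by decide, fun x => absurd ⟨x⟩ h⟩

theorem syl_fix {x y : Ω} (hxy : x ≠ y) {p : ℕ} [Fact p.Prime] (hp : Odd p)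
    (hd : p ∣ Nat.card (Img G x)) {P : Subgroup G} (hP : IsSyl p P (pairStab G x y)) :
    (∀ z : Ω, P ≤ stabilizer G z → z = x ∨ z = y) ∧
      IsSyl p P (stabilizer G x) ∧ IsSyl p P (stabilizer G y) := by
  have hfix : ∀ z : Ω, P ≤ stabilizer G z → z = x ∨ z = y := by
    intro z hz
    by_contra hcon
    push Not at hcon
    exact hS.fix_le_two hp P hP.isPGroup x y z (hS.class_of_syl hxy hP hd) hxy (Ne.symm hcon.1)
      (Ne.symm hcon.2) (hP.le.trans inf_le_right) hz
  exact ⟨hfix, hS.syl_stab_of_fix hxy hP hfix⟩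

/-- A stabiliser is transitive on the other points. -/
theorem exists_stab_smul {x y z : Ω} (hy : y ≠ x) (hz : z ≠ x) :
    ∃ g : G, g • x = x ∧ g • y = z := by
  obtain ⟨p, hp, hodd, hd⟩ := hS.exists_odd_prime_img
  haveI := Fact.mk hp
  obtain ⟨P, hP⟩ := exists_isSyl p (pairStab G x y)
  obtain ⟨Q, hQ⟩ := exists_isSyl p (pairStab G x z)
  obtain ⟨-, hP', -⟩ := hS.syl_fix hy.symm hodd (hd x) hP
  obtain ⟨hfQ, hQ', -⟩ := hS.syl_fix hz.symm hodd (hd x) hQ
  obtain ⟨g, hg, hgP⟩ := hP'.exists_conj hQ'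
  refine ⟨g, hg, ?_⟩
  have hle : Q ≤ stabilizer G (g • y) := by
    rw [stabilizer_smul_eq, ← hgP]
    exact map_mono (hP.le.trans inf_le_right)
  rcases hfQ _ hle with h | h
  · exact absurd (smul_left_cancel g (h.trans (show g • x = x from hg).symm)) hy
  · exact h

theorem exists_pair_smul {x y x' y' : Ω} (hxy : x ≠ y) (hxy' : x' ≠ y') :
    ∃ g : G, g • x = x' ∧ g • y = y' := by
  obtain ⟨g, hg⟩ := hS.trans x x'
  obtain ⟨k, hk, hky⟩ := hS.exists_stab_smul (x := x') (y := g • y) (z := y')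
    (fun h => hxy (smul_left_cancel g (hg.trans h.symm))) hxy'.symm
  exact ⟨k * g, by rw [mul_smul, hg, hk], by rw [mul_smul, hky]⟩

theorem card_pairStab_eq {x y x' y' : Ω} (hxy : x ≠ y) (hxy' : x' ≠ y') :
    Nat.card (pairStab G x y) = Nat.card (pairStab G x' y') := by
  obtain ⟨g, rfl, rfl⟩ := hS.exists_pair_smul hxy hxy'
  rw [← card_map_conj g (pairStab G x y), Subgroup.map_inf _ _ _ (MulAut.conj g).injective,
    ← stabilizer_smul_eq, ← stabilizer_smul_eq]

theorem pairStab_map {x y : Ω} {g : G} :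
    (pairStab G x y).map (MulAut.conj g).toMonoidHom = pairStab G (g • x) (g • y) := by
  rw [Subgroup.map_inf _ _ _ (MulAut.conj g).injective, ← stabilizer_smul_eq, ← stabilizer_smul_eq]

/-- The stabiliser is the product of the kernel on the images and a two-point stabiliser. -/
theorem exists_factor {x y : Ω} (hxy : x ≠ y) (hsol : SolvMod G x) {g : G} (hg : g • x = x) :
    ∃ c ∈ cmod G x, ∃ d ∈ pairStab G x y, g = c * d := by
  have htr : ∀ q q' : Img G x, ∃ h ∈ (imgHom G x).range, h q = q' := fun q q' => by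
    obtain ⟨d, -, hd⟩ := hS.exists_smul_img hxy q q'
    exact ⟨_, ⟨d, rfl⟩, hd⟩
  have hne : (imgHom G x).range ≠ ⊥ := by
    intro h
    obtain ⟨q, q', hqq⟩ := (Finite.one_lt_card_iff_nontrivial (α := Img G x)).1
      (by have := hS.three_le_card_img x; omega) |>.exists_pair_ne
    obtain ⟨e, he, heq⟩ := htr q q'
    rw [h, mem_bot] at he
    exact hqq (by rw [← heq, he]; rfl)
  obtain ⟨p, hp, hd, A, hAR, hA, hAn, hfree⟩ :=
    exists_fixedFree_part (H := (imgHom G x).range) le_normalizer hsol hne htr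
  haveI := Fact.mk hp
  have hodd : Odd p := (hS.card_img_odd x).of_dvd_nat hd
  set L₁ : Subgroup G := (A.comap (imgHom G x)).map (stabilizer G x).subtype with hL1
  have hL1x : L₁ ≤ stabilizer G x := map_subtype_le _
  have hL1n : stabilizer G x ≤ normalizer (L₁ : Set G) := by
    intro k hk
    rw [mem_normalizer_iff]
    have key : ∀ k : G, k • x = x → ∀ l ∈ L₁, k * l * k⁻¹ ∈ L₁ := by
      rintro k hk _ ⟨l, hl, rfl⟩
      refine ⟨⟨k, hk⟩ * l * ⟨k, hk⟩⁻¹, ?_, rfl⟩
      show imgHom G x _ ∈ A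
      rw [map_mul, map_mul, map_inv]
      exact (mem_normalizer_iff.1 (hAn ⟨_, rfl⟩) _).1 hl
    refine fun l => ⟨key k hk l, fun h => ?_⟩
    have := key k⁻¹ (inv_mem hk) _ h
    simpa [mul_assoc] using this
  have hcL1 : cmod G x ≤ L₁ := map_mono (fun c hc => by
    show imgHom G x c ∈ A
    rw [MonoidHom.mem_ker.1 hc]; exact A.one_mem)
  obtain ⟨P, hP⟩ := exists_isSyl p (pairStab G x y)
  obtain ⟨-, hPx, -⟩ := hS.syl_fix hxy hodd hd hP
  have hL : IsSyl p (P ⊓ L₁) L₁ := hPx.inf_of_le_normalizer hL1x hL1n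
  have hAP : A ≤ (P.subgroupOf (stabilizer G x)).map (imgHom G x) := by
    refine le_map_of_syl (imgHom G x) (S := P.subgroupOf (stabilizer G x)) (Z := ⊤) ?_ ?_ hA ?_
    · refine ⟨le_top, ?_⟩
      rw [Nat.card_congr (subgroupOfEquivOfLe hPx.le).toEquiv, hPx.2, Subgroup.card_top]
    · rw [← MonoidHom.range_eq_map]; exact hAR
    · rw [← MonoidHom.range_eq_map]; exact hAn
  have hsup : (P ⊓ L₁) ⊔ cmod G x = L₁ := by
    refine le_antisymm (sup_le inf_le_right hcL1) ?_
    rintro _ ⟨k, hk, rfl⟩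
    obtain ⟨r, hr, he⟩ := hAP hk
    have hr' : (r : G) ∈ P ⊓ L₁ := ⟨mem_subgroupOf.1 hr, r, (show imgHom G x r ∈ A by rw [he]; exact hk), rfl⟩
    rw [show ((stabilizer G x).subtype k : G) = (r : G) * ((r⁻¹ * k : stabilizer G x) : G) by simp]
    refine mul_mem (mem_sup_left hr') (mem_sup_right ⟨r⁻¹ * k, ?_, rfl⟩)
    show r⁻¹ * k ∈ (imgHom G x).ker
    rw [MonoidHom.mem_ker, map_mul, map_inv, he, inv_mul_cancel]
  set L := P ⊓ L₁ with hLdef
  have hLy : L ≤ stabilizer G y := inf_le_left.trans (hP.le.trans inf_le_right)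
  have hclass : IsClassAt x L := by
    refine ⟨inf_le_right.trans hL1x, ?_⟩
    rintro ⟨t, ht, hf⟩
    obtain ⟨a, ha, hat⟩ := hfree (img ht)
    obtain ⟨k, rfl⟩ := hAR ha
    refine hat ?_
    have hk1 : (k : G) ∈ L ⊔ cmod G x := hsup.symm ▸ ⟨k, ha, rfl⟩
    have hle : L ⊔ cmod G x ≤ imgFix G ht :=
      sup_le (fun r hr => (mem_imgFix ht).2 ⟨(inf_le_right.trans hL1x) hr, hf r hr⟩)
        (fun c hc => (mem_imgFix ht).2 ⟨(mem_cmod.1 hc).1, (mem_cmod.1 hc).2 t ht⟩)
    exact Quotient.sound ((mem_imgFix ht).1 (hle hk1)).2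
  have hfixL : ∀ z : Ω, L ≤ stabilizer G z → z = x ∨ z = y := by
    intro z hz
    by_contra hcon
    push Not at hcon
    exact hS.fix_le_two hodd L hL.isPGroup x y z hclass hxy (Ne.symm hcon.1) (Ne.symm hcon.2) hLy hz
  have hgL : IsSyl p (L.map (MulAut.conj g).toMonoidHom) L₁ := by
    have := hL.map_conj g
    rwa [map_conj_eq_of_mem_normalizer (hL1n hg)] at this
  obtain ⟨h, hh, hhL⟩ := hgL.exists_conj hL
  have hn : h * g ∈ normalizer (L : Set G) := by
    refine mem_normalizer_of_map_conj_eq ?_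
    conv_rhs => rw [← hhL, Subgroup.map_map L]
    exact congrArg (fun f => L.map f) (MonoidHom.ext fun r => by simp [mul_assoc])
  have hhgx : (h * g) • x = x := by rw [mul_smul, hg]; exact hL1x hh
  have hhgy : (h * g) • y = y := by
    rcases hfixL _ (smul_of_mem_normalizer hn hLy) with e | e
    · exact absurd (smul_left_cancel (h * g) (e.trans hhgx.symm)) hxy.symm
    · exact e
  have hhinv : h⁻¹ ∈ L ⊔ cmod G x := hsup.symm ▸ inv_mem hh
  obtain ⟨c, hc, r, hr, he⟩ := (CfsgLib.Core.mem_sup_iff_mul'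
    ((inf_le_right.trans hL1x).trans (le_normalizer_cmod x))).1 hhinv
  refine ⟨c, hc, r * (h * g), mul_mem ⟨(inf_le_right.trans hL1x) hr, hLy hr⟩ ⟨hhgx, hhgy⟩, ?_⟩
  rw [← mul_assoc, ← he, inv_mul_cancel_left]

/-- Elements of two-power order of a stabiliser lie in the kernel on the images. -/
theorem mem_cmod_of_two_power {x : Ω} (hsol : SolvMod G x) {g : G} (hg : g • x = x) {k : ℕ}
    (hk : g ^ 2 ^ k = 1) : g ∈ cmod G x := by
  obtain ⟨y, hy⟩ := hS.exists_ne x
  obtain ⟨c, hc, d, hd, rfl⟩ := hS.exists_factor hy.symm hsol hg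
  have hdx : d • x = x := hd.1
  refine mul_mem hc ?_
  obtain ⟨n, hn⟩ := (hS.odd_pairStab hy.symm).of_dvd_nat (orderOf_dvd_natCard _ hd)
  refine ⟨⟨d, hdx⟩, MonoidHom.mem_ker.2 ?_, rfl⟩
  have h1 : imgHom G x ⟨c * d, hg⟩ = imgHom G x ⟨d, hdx⟩ := by
    obtain ⟨c', hc', he⟩ := hc
    have e : (⟨c * d, hg⟩ : stabilizer G x) = c' * ⟨d, hdx⟩ := Subtype.ext (by simp [← he])
    rw [e, map_mul, MonoidHom.mem_ker.1 hc', one_mul]
  have h2 : imgHom G x ⟨d, hdx⟩ ^ (2 ^ k) = 1 := by
    rw [← h1, ← map_pow, ← map_one (imgHom G x)]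
    exact congrArg _ (Subtype.ext hk)
  have h3 : imgHom G x ⟨d, hdx⟩ ^ orderOf d = 1 := by
    rw [← map_pow, ← map_one (imgHom G x)]
    exact congrArg _ (Subtype.ext (pow_orderOf_eq_one d))
  have := pow_gcd_eq_one.2 ⟨h2, h3⟩
  rwa [Nat.Coprime.gcd_eq_one, pow_one] at this
  exact Nat.Coprime.pow_left _ (Nat.coprime_two_left.2 ⟨n, hn⟩)

/-- The kernel on the images is transitive on the other points. -/
theorem exists_cmod_smul {x y z : Ω} (hsol : SolvMod G x) (hy : y ≠ x) (hz : z ≠ x) :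
    ∃ c ∈ cmod G x, c • y = z := by
  obtain ⟨g, hg, rfl⟩ := hS.exists_stab_smul hy hz
  obtain ⟨c, hc, d, hd, rfl⟩ := hS.exists_factor hy.symm hsol hg
  exact ⟨c, hc, by rw [mul_smul, show d • y = y from hd.2]⟩

/-- The kernels at two points agree on the two-point stabiliser. -/
theorem cmod_symm_le {x y : Ω} (hxy : x ≠ y) : pairStab G x y ⊓ cmod G y ≤ cmod G x := by
  set D := pairStab G x y with hD
  set Z := D ⊓ cmod G y with hZ
  have hZx : Z ≤ stabilizer G x := inf_le_left.trans inf_le_left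
  set φ := imgHom G x
  set H := (D.subgroupOf (stabilizer G x)).map φ with hH
  set Y := (Z.subgroupOf (stabilizer G x)).map φ with hY
  by_cases hYbot : Y = ⊥
  · intro g hg
    refine ⟨⟨g, hZx hg⟩, MonoidHom.mem_ker.2 ?_, rfl⟩
    have : φ ⟨g, hZx hg⟩ ∈ Y := ⟨_, mem_subgroupOf.2 hg, rfl⟩
    rwa [hYbot, mem_bot] at this
  exfalso
  have hYn : H ≤ normalizer (Y : Set (Equiv.Perm (Img G x))) := by
    have hDZ : D.subgroupOf (stabilizer G x) ≤
        normalizer ((Z.subgroupOf (stabilizer G x) : Subgroup (stabilizer G x)) : Set (stabilizer G x)) := by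
      intro d hd
      have hd' : (d : G) ∈ normalizer (Z : Set G) := by
        refine mem_normalizer_of_map_conj_eq ?_
        rw [hZ, Subgroup.map_inf _ _ _ (MulAut.conj (d : G)).injective,
          map_conj_eq_of_mem_normalizer (le_normalizer (mem_subgroupOf.1 hd)),
          map_conj_eq_of_mem_normalizer (le_normalizer_cmod y (mem_subgroupOf.1 hd).2)]
      rw [mem_normalizer_iff]
      intro z
      simp only [mem_subgroupOf, Subgroup.coe_mul, Subgroup.coe_inv]
      exact mem_normalizer_iff.1 hd' z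
    exact (map_mono hDZ).trans (le_normalizer_map φ)
  have hsolY : Group.IsSolvable Y := by
    haveI := Cfsg.Agent.S0205.result (odd_of_le (inf_le_left : Z ≤ D) (hS.odd_pairStab hxy))
    haveI : Group.IsSolvable (Z.subgroupOf (stabilizer G x)) :=
      Group.isSolvable_of_surjective (f := (subgroupOfEquivOfLe hZx).symm.toMonoidHom)
        (subgroupOfEquivOfLe hZx).symm.surjective
    exact Group.isSolvable_of_surjective (φ.subgroupMap_surjective _)
  have htr : ∀ q q' : Img G x, ∃ h ∈ H, h q = q' := fun q q' => by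
    obtain ⟨d, hd, hdq⟩ := hS.exists_smul_img hxy q q'
    exact ⟨_, ⟨d, mem_subgroupOf.2 hd, rfl⟩, hdq⟩
  obtain ⟨p, hp, hd, A, hAY, hA, hAn, hfree⟩ := exists_fixedFree_part hYn hsolY hYbot htr
  haveI := Fact.mk hp
  have hodd : Odd p := (hS.card_img_odd x).of_dvd_nat hd
  obtain ⟨P, hP⟩ := exists_isSyl p D
  obtain ⟨hfP, -, hPy⟩ := hS.syl_fix hxy hodd hd hP
  have hPC : IsSyl p (P ⊓ cmod G y) (cmod G y) :=
    hPy.inf_of_le_normalizer (cmod_le y) (le_normalizer_cmod y)
  set S := P ⊓ cmod G y with hSdef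
  have hSZ : S ≤ Z := inf_le_inf_right _ hP.le
  have hSsyl : IsSyl p S Z := by
    refine ⟨hSZ, ?_⟩
    rw [card_eq_pow (hP.isPGroup.to_le inf_le_left)]
    exact congrArg _ (le_antisymm (vp_card_mono hSZ) (hPC.vp_eq.symm ▸ vp_card_mono inf_le_right))
  have hclass : IsClassAt x S := by
    refine ⟨hSZ.trans hZx, ?_⟩
    rintro ⟨t, ht, hf⟩
    obtain ⟨a, ha, hat⟩ := hfree (img ht)
    have hSx : IsSyl p (S.subgroupOf (stabilizer G x)) (Z.subgroupOf (stabilizer G x)) := by
      refine ⟨fun g hg => mem_subgroupOf.2 (hSZ (mem_subgroupOf.1 hg)), ?_⟩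
      rw [Nat.card_congr (subgroupOfEquivOfLe (hSZ.trans hZx)).toEquiv,
        Nat.card_congr (subgroupOfEquivOfLe hZx).toEquiv, hSsyl.2]
    have hYH : Y ≤ H := map_mono fun g hg => mem_subgroupOf.2 (mem_subgroupOf.1 hg).1
    obtain ⟨r, hr, rfl⟩ := le_map_of_syl φ hSx hAY hA (hYH.trans hAn) ha
    exact hat (Quotient.sound (hf r (mem_subgroupOf.1 hr)))
  obtain ⟨t, ht⟩ := hS.exists_invAt y
  obtain ⟨u, hu, huS, -⟩ := hS.exists_invAt_normalizer hodd (cmod_le y) (core_le_cmod y) ht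
    (fun g hg => (mem_cmod.1 hg).2 t ht) hPC
  exact hS.fix_le_two hodd S (hP.isPGroup.to_le inf_le_left) x y (u • x) hclass hxy
    (Ne.symm (hS.ne_of_inv hu hxy)) (fun h => hxy (smul_left_cancel u (by rw [← h, hu.2])))
    (hSZ.trans (inf_le_left.trans inf_le_right)) (smul_of_mem_normalizer huS (hSZ.trans hZx))

end Setting

end CfsgLib.Bender
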