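import Mathlib
import Cfsg.Agent.Lib.Core.Basic
import Cfsg.Agent.Lib.Core.SchurZassenhaus

/-!
Owner: helper29. A solvable Hall subgroup controlling its fusion in every subgroup containing all 2-elements
has a normal complement.
-/

set_option autoImplicit false
set_option linter.style.haveILetI false
set_option linter.unusedSectionVars false

namespace CfsgLib.Bender

open Subgroup

universe v

theorem exists_normal_complement : ∀ (n : ℕ) (Γ : Type v) [Group Γ] [Finite Γ] (X : Subgroup Γ),
    Nat.card X = n → Group.IsSolvable X → (Nat.card X).Coprime X.index → Odd (Nat.card X) →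
    (∀ N : Subgroup Γ, (∀ (g : Γ) (k : ℕ), g ^ 2 ^ k = 1 → g ∈ N) → ∀ x ∈ X ⊓ N, ∀ y ∈ X ⊓ N, ∀ g ∈ N, g * x * g⁻¹ = y →
      ∃ d ∈ X ⊓ N, d * x * d⁻¹ = y) →
    ∃ U : Subgroup Γ, U.Normal ∧ U ⊓ X = ⊥ ∧ Nat.card U = X.index := by
  classical
  intro n
  induction n using Nat.strong_induction_on with
  | _ n ih =>
    intro Γ _ _ X hn hsol hcop hodd hfus
    subst hn
    by_cases hX : X = ⊥
    · subst hX
      exact ⟨⊤, inferInstance, inf_bot_eq _, by rw [Subgroup.card_top, Subgroup.index_bot]⟩
    haveI := Nat.card_pos (α := X)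
    haveI : Nontrivial X := X.nontrivial_iff_ne_bot.2 hX
    haveI : X.FiniteIndex := inferInstance
    set φ : X →* Abelianization X := Abelianization.of
    set f : Γ →* Abelianization X := MonoidHom.transfer φ with hf
    have hfX : ∀ x : X, f x = φ x ^ X.index := by
      intro x
      letI := X.fintypeQuotientOfFiniteIndex
      rw [hf, MonoidHom.transfer_eq_prod_quotient_orbitRel_zpowers_quot,
        Finset.prod_congr rfl (g := fun q => φ x ^ Function.minimalPeriod ((x : Γ) • ·) q.out),
        Finset.prod_pow_eq_pow_sum, ← index_eq_sum_minimalPeriod X (x : Γ)]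
      intro q _
      set k := Function.minimalPeriod ((x : Γ) • ·) q.out
      set g₀ : Γ := q.out.out
      have hmem : g₀⁻¹ * (x : Γ) ^ k * g₀ ∈ X := QuotientGroup.out_conj_pow_minimalPeriod_mem X (x : Γ) q.out
      obtain ⟨d, hd, he⟩ := hfus ⊤ (fun _ _ _ => mem_top _) ((x : Γ) ^ k) ⟨X.pow_mem x.2 k, mem_top _⟩ _
        ⟨hmem, mem_top _⟩ g₀⁻¹ (mem_top _) (by rw [inv_inv])
      have e : (⟨g₀⁻¹ * (x : Γ) ^ k * g₀, hmem⟩ : X) = ⟨d, hd.1⟩ * x ^ k * ⟨d, hd.1⟩⁻¹ :=
        Subtype.ext (by simp [he])
      show φ ⟨g₀⁻¹ * (x : Γ) ^ k * g₀, hmem⟩ = φ x ^ k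
      rw [e, map_mul, map_mul, map_inv, map_pow, mul_comm (φ ⟨d, hd.1⟩), mul_inv_cancel_right]
    have hAcop : (Nat.card (Abelianization X)).Coprime X.index :=
      hcop.coprime_dvd_left (Subgroup.card_quotient_dvd_card _)
    have hsur : Function.Surjective f := fun z => by
      obtain ⟨m, hm⟩ := (powCoprime hAcop).surjective z
      obtain ⟨x, hx⟩ := QuotientGroup.mk_surjective m
      refine ⟨x, ?_⟩
      rw [hfX, show φ x = m from hx]
      exact hm
    set K := f.ker with hK
    have hKidx : K.index = Nat.card (Abelianization X) := by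
      rw [hK, Subgroup.index_ker, MonoidHom.range_eq_top.2 hsur, Subgroup.card_top]
    have hKodd : Odd K.index := by
      rw [hKidx]; exact hodd.of_dvd_nat (Subgroup.card_quotient_dvd_card _)
    set X' := X.subgroupOf K with hX'
    have hcardX' : Nat.card X' = Nat.card (commutator X) := by
      rw [hX', Nat.card_congr (Subgroup.equivMapOfInjective _ _ K.subtype_injective).toEquiv,
        Nat.card_congr (Subgroup.equivMapOfInjective (commutator X) _ X.subtype_injective).toEquiv]
      congr 2
      ext g
      simp only [mem_map, mem_subgroupOf]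
      constructor
      · rintro ⟨⟨g', hg'⟩, hgX, rfl⟩
        refine ⟨⟨g', hgX⟩, ?_, rfl⟩
        have h1 : φ ⟨g', hgX⟩ ^ X.index = 1 := by rw [← hfX]; exact MonoidHom.mem_ker.1 hg'
        rw [← Abelianization.ker_of, MonoidHom.mem_ker]
        exact (powCoprime hAcop).injective (h1.trans (one_pow _).symm)
      · rintro ⟨⟨g', hgX⟩, hg', rfl⟩
        refine ⟨⟨g', ?_⟩, hgX, rfl⟩
        rw [hK, MonoidHom.mem_ker, show f g' = f ((⟨g', hgX⟩ : X) : Γ) from rfl, hfX]
        rw [← Abelianization.ker_of, MonoidHom.mem_ker] at hg'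
        rw [show φ ⟨g', hgX⟩ = 1 from hg', one_pow]
    have hlt : Nat.card X' < Nat.card X := by
      rw [hcardX']
      haveI := hsol
      exact lt_of_le_of_ne (Nat.le_of_dvd Nat.card_pos (commutator X).card_subgroup_dvd_card)
        fun h => (Group.IsSolvable.commutator_lt_top_of_nontrivial X).ne (Subgroup.eq_top_of_card_eq _ h)
    have hidx : X'.index = X.index := by
      have h1 := X'.card_mul_index
      have h2 := K.card_mul_index
      have h3 := X.card_mul_index
      have h4 := (commutator X).card_mul_index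
      rw [hKidx] at h2
      have h5 : (commutator X).index = Nat.card (Abelianization X) := rfl
      rw [h5] at h4
      rw [hcardX'] at h1
      have h6 : Nat.card (Abelianization X) * (Nat.card (commutator X) * X'.index) =
          Nat.card (Abelianization X) * (Nat.card (commutator X) * X.index) := by
        rw [h1]
        calc Nat.card (Abelianization X) * Nat.card K = Nat.card Γ := by rw [← h2, mul_comm]
          _ = Nat.card X * X.index := h3.symm
          _ = _ := by rw [← h4]; ring
      exact Nat.eq_of_mul_eq_mul_left Nat.card_pos (Nat.eq_of_mul_eq_mul_left Nat.card_pos h6)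
    haveI : Group.IsSolvable X' := by
      have hle : X'.map K.subtype ≤ X := by rintro _ ⟨y, hy, rfl⟩; exact hy
      haveI := CfsgLib.Core.isSolvable_of_le hsol hle
      exact Group.isSolvable_of_surjective
        (f := (X'.equivMapOfInjective _ K.subtype_injective).symm.toMonoidHom)
        (X'.equivMapOfInjective _ K.subtype_injective).symm.surjective
    have hcard_dvd : Nat.card X' ∣ Nat.card X := by
      rw [hcardX']; exact (commutator X).card_subgroup_dvd_card
    obtain ⟨U, hUn, hUX, hUc⟩ := ih _ hlt K X' rfl inferInstance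
      (hidx ▸ hcop.coprime_dvd_left hcard_dvd) (hodd.of_dvd_nat hcard_dvd) (by
        intro N hN x hx y hy g hg he
        obtain ⟨d, hd, hde⟩ := hfus (N.map K.subtype) (fun z j hz => by
            have hzK : z ∈ K := by
              rw [hK, MonoidHom.mem_ker]
              have h1 : orderOf (f z) ∣ 2 ^ j := orderOf_dvd_of_pow_eq_one (by rw [← map_pow, hz, map_one])
              exact orderOf_eq_one_iff.1 (Nat.eq_one_of_dvd_coprimes
                (Nat.Coprime.pow_left j (Nat.coprime_two_left.2 (hodd.of_dvd_nat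
                  (Subgroup.card_quotient_dvd_card _)))) h1 (orderOf_dvd_natCard _))
            exact ⟨⟨z, hzK⟩, hN _ j (Subtype.ext hz), rfl⟩)
          x ⟨hx.1, x, hx.2, rfl⟩ y ⟨hy.1, y, hy.2, rfl⟩ g ⟨g, hg, rfl⟩ (congrArg Subtype.val he)
        obtain ⟨d', hd', rfl⟩ := hd.2
        exact ⟨d', ⟨hd.1, hd'⟩, Subtype.ext hde⟩)
    refine ⟨U.map K.subtype, ?_, ?_, ?_⟩
    · -- the elements of the kernel of order prime to `|X|`
      haveI := hUn
      have key : ∀ k : K, k ∈ U ↔ (orderOf k).Coprime (Nat.card X) := by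
        intro k
        constructor
        · intro hk
          refine Nat.Coprime.coprime_dvd_left ?_ (hcop.symm)
          rw [← hidx, ← hUc]
          exact U.orderOf_dvd_natCard hk
        · intro hk
          have h1 : orderOf (QuotientGroup.mk' U k) ∣ orderOf k := orderOf_map_dvd _ _
          have h2 : orderOf (QuotientGroup.mk' U k) ∣ U.index := by
            rw [Subgroup.index_eq_card]; exact orderOf_dvd_natCard _
          have h3 : U.index = Nat.card X' := by
            have e1 := U.card_mul_index
            have e2 := X'.card_mul_index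
            rw [hUc] at e1
            rw [mul_comm (Nat.card X')] at e2
            exact Nat.eq_of_mul_eq_mul_left (Nat.pos_of_ne_zero X'.index_ne_zero_of_finite) (e1.trans e2.symm)
          rw [h3] at h2
          have h4 := Nat.eq_one_of_dvd_coprimes (hk.coprime_dvd_right hcard_dvd) h1 h2
          exact (QuotientGroup.eq_one_iff k).1 (orderOf_eq_one_iff.1 h4)
      refine ⟨?_⟩
      rintro _ ⟨k, hk, rfl⟩ g
      have hmem : g * (k : Γ) * g⁻¹ ∈ K := (inferInstance : f.ker.Normal).conj_mem _ k.2 g
      refine ⟨⟨_, hmem⟩, (key _).2 ?_, rfl⟩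
      rw [← Subgroup.orderOf_coe, show orderOf (g * (k : Γ) * g⁻¹) = orderOf (k : Γ) from
        (orderOf_injective (MulAut.conj g).toMonoidHom (MulAut.conj g).injective (k : Γ)), Subgroup.orderOf_coe]
      exact (key k).1 hk
    · rw [Subgroup.eq_bot_iff_forall]
      rintro _ ⟨⟨k, hk, rfl⟩, hkX⟩
      have : k ∈ U ⊓ X' := ⟨hk, hkX⟩
      rw [hUX, mem_bot] at this
      rw [this]; rfl
    · rw [← Nat.card_congr (U.equivMapOfInjective _ K.subtype_injective).toEquiv, hUc, hidx]

end CfsgLib.Bender
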