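import Cfsg.Agent.Lib.Bender.Local

/-!
Owner: helper29. For a prime dividing the kernel of a two-point stabiliser on the images, the Sylow
subgroups of the two-point stabiliser are Sylow in the stabiliser.
-/

set_option autoImplicit false
set_option linter.style.haveILetI false
set_option linter.unusedSectionVars false

namespace CfsgLib.Bender

open Subgroup MulAction
open CfsgLib.Signalizer (involution_sq involution_inv orderOf_eq_two_of involution_ne_one)

universe u

/-- An involution mapping a point into its orbit under a normal odd subgroup yields an involution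
fixing the point. -/
theorem exists_inv_fixing {G Ω : Type*} [Group G] [Finite G] [MulAction G Ω] {K O : Subgroup G}
    (hOK : O ≤ K) (hO : Odd (Nat.card O)) (hn : ∀ k ∈ K, ∀ o ∈ O, k * o * k⁻¹ ∈ O) {u o : G}
    (hu : u ∈ K) (hu2 : orderOf u = 2) (ho : o ∈ O) {x : Ω} (h : o • x = u • x) :
    ∃ z ∈ K, InvAt z x := by
  set g := o⁻¹ * u with hdef
  have hgK : g ∈ K := mul_mem (inv_mem (hOK ho)) hu
  have hgx : g • x = x := by rw [hdef, mul_smul, ← h, inv_smul_smul]
  have hg2 : g * g ∈ O := by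
    have : g * g = o⁻¹ * (u * o⁻¹ * u⁻¹) := by
      rw [hdef, involution_inv hu2]; group
    rw [this]
    exact mul_mem (inv_mem ho) (hn u hu _ (inv_mem ho))
  have heven : Even (orderOf g) := by
    rw [← Nat.not_odd_iff_even]
    rintro ⟨n, hgn⟩
    have h1 : g = (g * g) ^ (n + 1) := by
      rw [← pow_two, ← pow_mul, show 2 * (n + 1) = 2 * n + 1 + 1 by ring, pow_succ, ← hgn,
        pow_orderOf_eq_one, one_mul]
    have h3 : g ∈ O := h1 ▸ O.pow_mem hg2 _
    have h4 := mul_mem ho h3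
    rw [hdef, mul_inv_cancel_left] at h4
    exact not_mem_of_odd hO hu2 h4
  obtain ⟨m, hm⟩ := heven
  have hm0 : 0 < m := by have := orderOf_pos g; omega
  refine ⟨g ^ m, K.pow_mem hgK m, ?_, (stabilizer G x).pow_mem hgx m⟩
  rw [orderOf_pow_of_dvd hm0.ne' ⟨2, by omega⟩, hm]
  exact Nat.div_eq_of_eq_mul_left hm0 (by omega)

variable {G : Type u} {Ω : Type*} [Group G] [Finite G] [MulAction G Ω] [Finite Ω] (hS : Setting G Ω)
include hS

namespace Setting

/-- The orbit condition of `vp_stab_eq'` holds when the image is solvable. -/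
theorem cardOK_of_solvMod (hsmall : SmallerOK.{u} (Nat.card G)) {a : Ω} (hsol : SolvMod G a)
    (H : Subgroup G) (b : Ω) (s t w : G) (hab : a ≠ b) (hH : H ≠ ⊤) (hsH : s ∈ H) (htH : t ∈ H)
    (hwH : w ∈ H) (hs : InvAt s a) (ht : InvAt t a) (hne : s ≠ t) (hc : s * t = t * s)
    (hw : InvAt w b) : ∃ k : ℕ, Nat.card {c : Ω // c ≠ a ∧ ∃ h ∈ H, h • a = c} = 2 ^ k :=
  (hS.two_centres hsmall hab hsol hH hsH htH hwH hs ht hne hc hw).1

theorem cmod_symm {x y : Ω} (hxy : x ≠ y) {g : G} (hg : g ∈ pairStab G x y) :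
    g ∈ cmod G x ↔ g ∈ cmod G y :=
  ⟨fun h => hS.cmod_symm_le hxy.symm ⟨⟨hg.2, hg.1⟩, h⟩, fun h => hS.cmod_symm_le hxy ⟨hg, h⟩⟩

theorem vp_stab_eq' {a : Ω} (hcard : ∀ (H : Subgroup G) (b : Ω) (s t w : G), a ≠ b → H ≠ ⊤ →
      s ∈ H → t ∈ H → w ∈ H → InvAt s a → InvAt t a → s ≠ t → s * t = t * s → InvAt w b →
      ∃ k : ℕ, Nat.card {c : Ω // c ≠ a ∧ ∃ h ∈ H, h • a = c} = 2 ^ k)
    (hfaith : ∀ g : G, (∀ x : Ω, g • x = x) → g = 1) {b : Ω} (hab : a ≠ b)
    {q : ℕ} [Fact q.Prime] (hq : q ∣ Nat.card (pairStab G a b ⊓ cmod G a : Subgroup G))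
    {P : Subgroup G} (hP : IsSyl q P (pairStab G a b)) : IsSyl q P (stabilizer G a) := by
  classical
  have hqodd : Odd q :=
    (odd_of_le inf_le_left (hS.odd_pairStab hab)).of_dvd_nat hq
  set K := normalizer (P : Set G) with hK
  have hPa : P ≤ stabilizer G a := hP.le.trans inf_le_left
  have hPb : P ≤ stabilizer G b := hP.le.trans inf_le_right
  have hPodd : Odd (Nat.card P) := by rw [hP.2]; exact hqodd.pow
  obtain ⟨P₁, hP₁, hPP₁⟩ := exists_isSyl_ge hP.isPGroup hPa
  by_cases heq : P = P₁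
  · rw [heq]; exact hP₁
  exfalso
  obtain ⟨g, hgP₁, hgn, hgP⟩ := exists_mem_normalizer_notMem hP₁.isPGroup hPP₁ heq
  have hga : g • a = a := hP₁.le hgP₁
  have hsylF : ∀ x y : Ω, P ≤ stabilizer G x → P ≤ stabilizer G y → x ≠ y →
      IsSyl q P (pairStab G x y) := fun x y hx hy hxy =>
    ⟨le_inf hx hy, by rw [hP.2, hS.card_pairStab_eq hab hxy]⟩
  -- a larger `q`-group fixing two points is impossible
  have hbig : ∀ c : Ω, c ≠ a → g • c = c → P ≤ stabilizer G c → False := by
    intro c hc hgc hPc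
    have hsyl := hsylF a c hPa hPc hc.symm
    have : P = P ⊔ zpowers g := hsyl.eq_of_le
      (hP₁.isPGroup.to_le (sup_le hPP₁ (zpowers_le.2 hgP₁))) le_sup_left
      (sup_le hsyl.le (zpowers_le.2 ⟨hga, hgc⟩))
    exact hgP (this ▸ mem_sup_right (mem_zpowers g))
  by_cases hcen : ∃ x : Ω, P ≤ stabilizer G x ∧ ∃ u ∈ K, InvAt u x
  swap
  · push Not at hcen
    obtain ⟨v, hvK, hv, hva⟩ := hS.swap_of_syl hab hP
    have hr : ∀ e ∈ K, ∀ f ∈ K, orderOf e = 2 → orderOf f = 2 → e * f = f * e → e = f := by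
      intro e heK f hfK he hf hef
      by_contra hne
      obtain ⟨y, hy⟩ := hS.fix_exists he
      have hfy : f • y = y := by
        refine hS.fix_unique (t := e) ⟨he, ?_⟩ ⟨he, hy⟩
        rw [← mul_smul, hef, mul_smul, hy]
      refine hcen y ?_ e heK ⟨he, hy⟩
      refine le_of_four_centralizers hPodd he hf hef hne heK hfK fun r _ z hz hrz => ?_
      have hzy : InvAt z y := by
        rcases hz with rfl | rfl | rfl
        · exact ⟨he, hy⟩
        · exact ⟨hf, hfy⟩
        · exact hS.invAt_mul ⟨he, hy⟩ ⟨hf, hfy⟩ hne hef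
      exact hS.fix_unique (t := z) ⟨hzy.1, by rw [← mul_smul, ← hrz, mul_smul, hzy.2]⟩ hzy
    set O : Subgroup G := (Cfsg.oddCore ↥K).map K.subtype with hOdef
    have hOodd : Odd (Nat.card O) := by
      rw [hOdef, ← Nat.card_congr ((Cfsg.oddCore _).equivMapOfInjective _ K.subtype_injective).toEquiv]
      exact CfsgLib.ZStar.odd_card_oddCore _
    have hOK : O ≤ K := map_subtype_le _
    have hOn : ∀ k ∈ K, ∀ o ∈ O, k * o * k⁻¹ ∈ O := by
      rintro k hk _ ⟨o, ho, rfl⟩
      exact ⟨⟨k, hk⟩ * o * ⟨k, hk⟩⁻¹, (inferInstance : (Cfsg.oddCore ↥K).Normal).conj_mem o ho _, rfl⟩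
    have htriv : ∀ x : Ω, P ≤ stabilizer G x → ∀ o ∈ O, o • x = x := by
      intro x hx o ho
      by_contra hne
      obtain ⟨u, huK, hu, hux⟩ := hS.swap_of_syl (Ne.symm hne)
        (hsylF x _ hx (smul_of_mem_normalizer (hOK ho) hx) (Ne.symm hne))
      obtain ⟨z, hzK, hz⟩ := exists_inv_fixing hOK hOodd hOn huK hu ho hux.symm
      exact hcen x hx z hzK hz
    have hall : ∀ c : Ω, P ≤ stabilizer G c → a ≠ c → c = b := by
      intro c hc hac
      obtain ⟨u, huK, hu, hua⟩ := hS.swap_of_syl hac (hsylF a c hPa hc hac)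
      have h := htriv b hPb _ (mul_mem_oddCore_of_rank_one K hr huK hvK hu hv)
      rw [mul_smul, swap_back hS hv hva, hua] at h
      exact h
    have hgb : g • b = b := hall _ (smul_of_mem_normalizer hgn hPb)
      fun h => hab (smul_left_cancel g (by rw [hga, ← h]))
    exact hbig b hab.symm hgb hPb
  -- an involution at `a` normalises `P`
  obtain ⟨t, htK, ht⟩ : ∃ t ∈ K, InvAt t a := by
    obtain ⟨x, hx, u, huK, hu⟩ := hcen
    by_cases hxa : x = a
    · exact ⟨u, huK, hxa ▸ hu⟩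
    obtain ⟨r, hrK, hr2, hrx⟩ := hS.swap_of_syl hxa (hsylF x a hx hPa hxa)
    refine ⟨r * u * r⁻¹, mul_mem (mul_mem hrK huK) (inv_mem hrK), ?_⟩
    rw [← hrx]
    exact hu.conj r
  obtain ⟨v, hvK, hv, hva⟩ := hS.swap_of_syl hab hP
  have hX : IsSyl q (P ⊓ (pairStab G a b ⊓ cmod G a)) (pairStab G a b ⊓ cmod G a) := by
    refine hP.inf_of_le_normalizer inf_le_left fun d hd => ?_
    refine mem_normalizer_of_map_conj_eq ?_
    rw [Subgroup.map_inf _ _ _ (MulAut.conj d).injective, map_conj_eq_of_mem_normalizer (le_normalizer hd),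
      map_conj_eq_of_mem_normalizer (le_normalizer_cmod a hd.1)]
  set PX := P ⊓ cmod G a with hPX
  have hPXeq : P ⊓ (pairStab G a b ⊓ cmod G a) = PX := by
    rw [← inf_assoc, inf_eq_left.2 hP.le]
  rw [hPXeq] at hX
  have hPXne : PX ≠ ⊥ := fun h => by
    have h2 := hX.2
    rw [h, Subgroup.card_bot] at h2
    have hpos := (Fact.out : q.Prime).factorization_pos_of_dvd Nat.card_pos.ne' hq
    have h3 : 1 < q ^ vp q (Nat.card (pairStab G a b ⊓ cmod G a : Subgroup G)) :=
      Nat.one_lt_pow (by simp only [vp]; omega) (Fact.out : q.Prime).one_lt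
    omega
  set H := normalizer (PX : Set G) with hH
  have hnorm : ∀ k ∈ K, k • a = a → k ∈ H := fun k hk hka => by
    refine mem_normalizer_of_map_conj_eq ?_
    rw [hPX, Subgroup.map_inf _ _ _ (MulAut.conj k).injective, map_conj_eq_of_mem_normalizer hk,
      map_conj_eq_of_mem_normalizer (le_normalizer_cmod a hka)]
  have htH : t ∈ H := hnorm t htK ht.2
  have hgH : g ∈ H := hnorm g hgn hga
  have hPH : P ≤ H := fun r hr => hnorm r (le_normalizer hr) (hPa hr)
  have hvH : v ∈ H := by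
    rw [hH, mem_normalizer_iff]
    intro r
    have key : ∀ r ∈ PX, v * r * v⁻¹ ∈ PX := fun r hr => by
      have h1 : v * r * v⁻¹ ∈ P := (mem_normalizer_iff.1 hvK r).1 hr.1
      refine ⟨h1, (hS.cmod_symm hab (hP.le h1)).2 ?_⟩
      rw [← hva]
      exact cmod_smul_mem v hr.2
    refine ⟨key r, fun h => ?_⟩
    have := key _ h
    rw [involution_inv hv] at this
    simpa [mul_assoc, involution_sq hv, ← mul_assoc v v] using this
  have hHtop : H ≠ ⊤ := by
    intro h
    refine hPXne ((Subgroup.eq_bot_iff_forall _).2 fun r hr => hfaith r fun x => ?_)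
    obtain ⟨k, rfl⟩ := hS.trans a x
    have h' : k⁻¹ * r * k ∈ PX := (mem_normalizer_iff''.1 (show k ∈ H from h ▸ mem_top k) r).1 hr
    have h'' : (k⁻¹ * r * k) • a = a := hPa h'.1
    rwa [mul_smul, mul_smul, inv_smul_eq_iff] at h''
  -- two involutions at `a` with different images
  haveI : Nontrivial (Img G a) := (Finite.one_lt_card_iff_nontrivial (α := Img G a)).1
    (by have := hS.three_le_card_img a; omega)
  obtain ⟨q', hq'⟩ := _root_.exists_ne (img ht)
  obtain ⟨d, hd, hdq⟩ := hS.exists_smul_img hab (img ht) q'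
  have hdPX : IsSyl q (PX.map (MulAut.conj (d : G)).toMonoidHom) (pairStab G a b ⊓ cmod G a) := by
    have h := hX.map_conj (d : G)
    rwa [Subgroup.map_inf (pairStab G a b) (cmod G a) _ (MulAut.conj (d : G)).injective,
      map_conj_eq_of_mem_normalizer (le_normalizer hd),
      map_conj_eq_of_mem_normalizer (le_normalizer_cmod a d.2)] at h
  obtain ⟨h, hh, hhP⟩ := hdPX.exists_conj hX
  have hhd : h * (d : G) ∈ H := by
    refine mem_normalizer_of_map_conj_eq ?_
    conv_rhs => rw [← hhP, Subgroup.map_map PX]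
    exact congrArg (fun f => PX.map f) (MonoidHom.ext fun r => by simp [mul_assoc])
  set t' := (h * (d : G)) * t * (h * (d : G))⁻¹ with ht'
  have ht'a : InvAt t' a := ht.conj' (by rw [mul_smul, show (d : G) • a = a from d.2]; exact hh.1.1)
  have hncong : t * t' ∉ core G a := by
    intro hcon
    refine hq' ?_
    have h1 : t' * ((d : G) * t * (d : G)⁻¹) ∈ core G a := by
      have := (mem_cmod.1 hh.2).2 ((d : G) * t * (d : G)⁻¹) (ht.conj' d.2)
      simpa [ht', mul_assoc] using this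
    rw [← hdq, smul_img, img_eq_iff]
    exact congr_symm ht (ht.conj' d.2) (congr_trans ht'a hcon h1)
  have hsq : (t * t') ^ 2 ∈ core G a := by
    rw [pow_two, ← mul_assoc]; exact hS.comm_mod ht ht'a
  have heven : Even (orderOf (t * t')) := by
    rw [← Nat.not_odd_iff_even]
    rintro ⟨n, hn⟩
    refine hncong ?_
    have : t * t' = ((t * t') ^ 2) ^ (n + 1) := by
      rw [← pow_mul, show 2 * (n + 1) = 2 * n + 1 + 1 by ring, pow_succ, ← hn, pow_orderOf_eq_one,
        one_mul]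
    rw [this]
    exact pow_mem hsq _
  obtain ⟨hz2, hzc, -⟩ := CfsgLib.Signalizer.central_involution ht.1 ht'a.1 heven
  set z := (t * t') ^ (orderOf (t * t') / 2) with hz
  have hza : InvAt z a := ⟨hz2, (stabilizer G a).pow_mem (mul_mem ht.2 ht'a.2) _⟩
  have hzne : t ≠ z := fun h' => CfsgLib.Signalizer.left_not_mem_zpowers ht.1 ht'a.1 (by
    have h2 : z ∈ zpowers (t * t') := pow_mem (mem_zpowers (t * t')) _
    rwa [← h'] at h2)
  have hzH : z ∈ H := H.pow_mem (mul_mem htH (mul_mem (mul_mem hhd htH) (inv_mem hhd))) _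
  have hwb : InvAt (v * t * v⁻¹) b := hva ▸ ht.conj v
  obtain ⟨k, hk⟩ := hcard H b t z _ hab hHtop htH hzH
    (mul_mem (mul_mem hvH htH) (inv_mem hvH)) ht hza hzne hzc.symm.eq hwb
  -- a `q`-group fixes one of the other centres
  set Q := P ⊔ zpowers g with hQ
  have hQH : Q ≤ H := sup_le hPH (zpowers_le.2 hgH)
  have hQa : Q ≤ stabilizer G a := sup_le hPa (zpowers_le.2 hga)
  let _ : MulAction Q {c : Ω // c ≠ a ∧ ∃ h ∈ H, h • a = c} :=
    { smul := fun r c => ⟨(r : G) • c.1, fun h' => c.2.1 (smul_left_cancel (r : G)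
          (h'.trans (show (r : G) • a = a from hQa r.2).symm)), by
          obtain ⟨h', hh', he⟩ := c.2.2
          exact ⟨r * h', mul_mem (hQH r.2) hh', by rw [mul_smul, he]⟩⟩
      one_smul := fun c => Subtype.ext (one_smul G _)
      mul_smul := fun r r' c => Subtype.ext (mul_smul (r : G) r' _) }
  have hQp : IsPGroup q Q := hP₁.isPGroup.to_le (sup_le hPP₁ (zpowers_le.2 hgP₁))
  have hmod := hQp.card_modEq_card_fixedPoints {c : Ω // c ≠ a ∧ ∃ h ∈ H, h • a = c}
  rw [hk] at hmod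
  have hne : (fixedPoints Q {c : Ω // c ≠ a ∧ ∃ h ∈ H, h • a = c}).Nonempty := by
    by_contra h0
    rw [Set.not_nonempty_iff_eq_empty] at h0
    rw [h0, Nat.card_coe_set_eq, Set.ncard_empty] at hmod
    have h2 := (Fact.out : q.Prime).dvd_of_dvd_pow (Nat.modEq_zero_iff_dvd.1 hmod)
    rw [Nat.prime_dvd_prime_iff_eq Fact.out Nat.prime_two] at h2
    rw [h2] at hqodd
    exact absurd hqodd (by decide)
  obtain ⟨c, hc⟩ := hne
  have hfixc : ∀ r : Q, (r : G) • c.1 = c.1 := fun r => congrArg Subtype.val (hc r)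
  exact hbig c.1 c.2.1 (hfixc ⟨g, mem_sup_right (mem_zpowers g)⟩) fun r hr => hfixc ⟨r, mem_sup_left hr⟩

theorem vp_stab_eq (hsmall : SmallerOK.{u} (Nat.card G))
    (hfaith : ∀ g : G, (∀ x : Ω, g • x = x) → g = 1) {a b : Ω} (hab : a ≠ b) (hsol : SolvMod G a)
    {q : ℕ} [Fact q.Prime] (hq : q ∣ Nat.card (pairStab G a b ⊓ cmod G a : Subgroup G))
    {P : Subgroup G} (hP : IsSyl q P (pairStab G a b)) : IsSyl q P (stabilizer G a) :=
  hS.vp_stab_eq' (hS.cardOK_of_solvMod hsmall hsol) hfaith hab hq hP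

end Setting

end CfsgLib.Bender
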