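import Mathlib
import Cfsg.Agent.Lib.Core.Basic
import Cfsg.Agent.Lib.Core.Coprime
import Cfsg.Agent.Lib.Core.Cores
import Cfsg.Agent.Lib.Signalizer.Involutions
import Cfsg.Agent.Lib.LocalEven.Generation
import Cfsg.Agent.Lib.ZStar.Apps

/-!
Owner: helper29. Group theoretic lemmas for the proof of Bender's theorem with a 2-constrained
stabiliser (`notes/bender_solvable_helper29.md`).
-/

set_option autoImplicit false
set_option linter.style.haveILetI false
set_option linter.unusedSectionVars false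

namespace CfsgLib.Bender

open Subgroup MulAction
open CfsgLib.Signalizer (involution_sq involution_inv orderOf_eq_two_of involution_ne_one)

variable {G : Type*} [Group G] [Finite G]

/-- The exponent of `p` in a natural number. -/
abbrev vp (p n : ℕ) : ℕ := n.factorization p

/-- `P` is a Sylow `p`-subgroup of the subgroup `H`. -/
def IsSyl (p : ℕ) (P H : Subgroup G) : Prop := P ≤ H ∧ Nat.card P = p ^ vp p (Nat.card H)

section Syl

variable {p : ℕ} [hp : Fact p.Prime] {P Q R H N : Subgroup G}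

theorem vp_card_mono (h : Q ≤ H) : vp p (Nat.card Q) ≤ vp p (Nat.card H) :=
  (Nat.factorization_le_iff_dvd Nat.card_pos.ne' Nat.card_pos.ne').2 (card_dvd_of_le h) p

theorem card_eq_pow (hR : IsPGroup p R) : Nat.card R = p ^ vp p (Nat.card R) := by
  obtain ⟨k, hk⟩ := hR.exists_card_eq
  rw [hk, vp, Nat.Prime.factorization_pow hp.out, Finsupp.single_eq_same]

omit [Finite G] hp in
theorem IsSyl.le (h : IsSyl p P H) : P ≤ H := h.1

omit [Finite G] in
theorem IsSyl.isPGroup (h : IsSyl p P H) : IsPGroup p P := IsPGroup.of_card h.2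

theorem IsSyl.vp_eq (h : IsSyl p P H) : vp p (Nat.card P) = vp p (Nat.card H) := by
  rw [h.2, vp, Nat.Prime.factorization_pow hp.out, Finsupp.single_eq_same]

theorem IsSyl.eq_of_le (h : IsSyl p P H) (hQ : IsPGroup p Q) (hPQ : P ≤ Q) (hQH : Q ≤ H) :
    P = Q := by
  refine eq_of_le_of_card_ge hPQ ?_
  rw [h.2, card_eq_pow hQ]
  exact Nat.pow_le_pow_right hp.out.pos (vp_card_mono hQH)

theorem exists_isSyl_ge (hR : IsPGroup p R) (hRH : R ≤ H) : ∃ P, IsSyl p P H ∧ R ≤ P := by
  obtain ⟨S, hS⟩ := (hR.of_equiv (subgroupOfEquivOfLe hRH).symm).exists_le_sylow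
  refine ⟨(S : Subgroup H).map H.subtype, ⟨map_subtype_le _, ?_⟩, ?_⟩
  · rw [← Nat.card_congr ((S : Subgroup H).equivMapOfInjective _ H.subtype_injective).toEquiv]
    exact S.card_eq_multiplicity
  · intro x hx
    exact ⟨⟨x, hRH hx⟩, hS (mem_subgroupOf.2 hx), rfl⟩

theorem exists_isSyl (p : ℕ) [Fact p.Prime] (H : Subgroup G) : ∃ P, IsSyl p P H :=
  let ⟨P, hP, _⟩ := exists_isSyl_ge (p := p) (R := ⊥) IsPGroup.of_bot (bot_le (a := H))
  ⟨P, hP⟩

omit [Finite G] in
theorem mem_map_conj {g x : G} :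
    x ∈ H.map (MulAut.conj g).toMonoidHom ↔ g⁻¹ * x * g ∈ H := by
  refine ⟨?_, fun h => ⟨_, h, by simp [mul_assoc]⟩⟩
  rintro ⟨y, hy, rfl⟩
  simpa [mul_assoc] using hy

omit [Finite G] in
theorem conj_mem_map_conj {g x : G} (hx : x ∈ H) :
    g * x * g⁻¹ ∈ H.map (MulAut.conj g).toMonoidHom := ⟨x, hx, by simp⟩

omit [Finite G] in
theorem card_map_conj (g : G) (H : Subgroup G) :
    Nat.card (H.map (MulAut.conj g).toMonoidHom) = Nat.card H :=
  (Nat.card_congr (H.equivMapOfInjective _ (MulAut.conj g).injective).toEquiv).symm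

omit [Finite G] hp in
theorem IsSyl.map_conj (h : IsSyl p P H) (g : G) :
    IsSyl p (P.map (MulAut.conj g).toMonoidHom) (H.map (MulAut.conj g).toMonoidHom) :=
  ⟨map_mono h.1, by rw [card_map_conj, card_map_conj, h.2]⟩

theorem IsSyl.exists_conj (hP : IsSyl p P H) (hQ : IsSyl p Q H) :
    ∃ g ∈ H, P.map (MulAut.conj g).toMonoidHom = Q := by
  have key : ∀ {T : Subgroup G}, IsSyl p T H → ∃ S : Sylow p H, (S : Subgroup H).map H.subtype = T := by
    intro T hT
    obtain ⟨S, hS⟩ := (hT.isPGroup.of_equiv (subgroupOfEquivOfLe hT.le).symm).exists_le_sylow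
    refine ⟨S, (hT.eq_of_le (S.isPGroup'.map _) ?_ (map_subtype_le _)).symm⟩
    intro x hx
    exact ⟨⟨x, hT.le hx⟩, hS (mem_subgroupOf.2 hx), rfl⟩
  obtain ⟨S, rfl⟩ := key hP
  obtain ⟨T, rfl⟩ := key hQ
  obtain ⟨g, rfl⟩ := MulAction.exists_smul_eq H S T
  refine ⟨g, g.2, ?_⟩
  rw [Sylow.coe_subgroup_smul]
  ext x
  constructor
  · rintro ⟨y, ⟨z, hz, rfl⟩, rfl⟩
    exact ⟨g * z * g⁻¹, ⟨z, hz, rfl⟩, by simp⟩
  · rintro ⟨y, ⟨z, hz, rfl⟩, rfl⟩
    exact ⟨z, ⟨z, hz, rfl⟩, by simp [MulAut.smul_def]⟩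

omit hp in
/-- A Sylow subgroup meets a normalised subgroup in a Sylow subgroup. -/
theorem IsSyl.inf_of_le_normalizer [Fact p.Prime] (h : IsSyl p P H) (hNH : N ≤ H)
    (hn : H ≤ normalizer (N : Set G)) : IsSyl p (P ⊓ N) N := by
  refine ⟨inf_le_right, ?_⟩
  have hpg : IsPGroup p (P ⊓ N : Subgroup G) := h.isPGroup.to_le inf_le_left
  rw [card_eq_pow hpg]
  congr 1
  refine le_antisymm (vp_card_mono inf_le_right) ?_
  have hPN : P ≤ normalizer (N : Set G) := h.le.trans hn
  have hle : P ⊔ N ≤ H := sup_le h.le hNH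
  have hmul := CfsgLib.Core.card_sup_mul_card_inf P N hPN
  have h1 := congrArg (vp p) hmul
  simp only [vp, Nat.factorization_mul Nat.card_pos.ne' Nat.card_pos.ne', Finsupp.add_apply] at h1
  have h2 := vp_card_mono (p := p) hle
  have h3 := h.vp_eq
  simp only [vp] at h2 h3 ⊢
  omega

omit hp in
/-- Proper subgroups of a `p`-group grow in their normalisers. -/
theorem exists_mem_normalizer_notMem [Fact p.Prime] (hP : IsPGroup p P) (hRP : R ≤ P) (hne : R ≠ P) :
    ∃ g ∈ P, g ∈ normalizer (R : Set G) ∧ g ∉ R := by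
  haveI := hP.isNilpotent
  have hlt : R.subgroupOf P < ⊤ := by
    rw [lt_top_iff_ne_top, Ne, subgroupOf_eq_top]
    exact fun h => hne (le_antisymm hRP h)
  have hgrow := Group.normalizerCondition_of_isNilpotent _ hlt
  rw [← subgroupOf_normalizer_eq hRP] at hgrow
  obtain ⟨g, hg, hgR⟩ := SetLike.exists_of_lt hgrow
  rw [mem_subgroupOf] at hg hgR
  exact ⟨g, g.2, hg, hgR⟩

end Syl

omit [Finite G] in
theorem map_conj_eq_of_mem_normalizer {g : G} {H : Subgroup G} (hg : g ∈ normalizer (H : Set G)) :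
    H.map (MulAut.conj g).toMonoidHom = H := by
  ext x
  rw [mem_map_conj]
  exact ⟨fun h => by simpa [mul_assoc] using (mem_normalizer_iff.1 hg _).1 h,
    fun h => (mem_normalizer_iff''.1 hg x).1 h⟩

omit [Finite G] in
theorem mem_normalizer_of_map_conj_eq {g : G} {H : Subgroup G}
    (h : H.map (MulAut.conj g).toMonoidHom = H) : g ∈ normalizer (H : Set G) := by
  rw [mem_normalizer_iff]
  intro x
  conv_rhs => rw [← h, mem_map_conj]
  simp [mul_assoc]

/-- Two involutions which agree modulo an odd subgroup are conjugate inside it. -/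
theorem exists_conj_of_mul_mem {W : Subgroup G} (hW : Odd (Nat.card W)) {s t : G}
    (hs : orderOf s = 2) (ht : orderOf t = 2) (h : s * t ∈ W) :
    ∃ w ∈ W, w * s * w⁻¹ = t := by
  obtain ⟨n, hn⟩ := hW.of_dvd_nat (W.orderOf_dvd_natCard h)
  refine ⟨(s * t) ^ n, W.pow_mem h _, ?_⟩
  have h1 : s * ((s * t) ^ n)⁻¹ = (s * t) ^ n * s := by
    rw [← zpow_natCast, ← zpow_neg, CfsgLib.Signalizer.mul_pair_zpow hs ht, neg_neg]
  rw [mul_assoc, h1, ← mul_assoc, ← pow_add]
  have h2 : (s * t) ^ (n + n) * (s * t) = 1 := by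
    rw [← pow_succ, show n + n + 1 = 2 * n + 1 by ring, ← hn, pow_orderOf_eq_one]
  rw [eq_inv_of_mul_eq_one_left h2, mul_inv_rev, involution_inv hs, involution_inv ht, mul_assoc,
    involution_sq hs, mul_one]

theorem odd_of_le {A B : Subgroup G} (h : A ≤ B) (hB : Odd (Nat.card B)) : Odd (Nat.card A) :=
  hB.of_dvd_nat (card_dvd_of_le h)

theorem not_mem_of_odd {H : Subgroup G} (hH : Odd (Nat.card H)) {t : G} (ht : orderOf t = 2) :
    t ∉ H := fun h => by
  have := hH.of_dvd_nat (H.orderOf_dvd_natCard h)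
  rw [ht] at this
  exact absurd this (by decide)

/-- In a subgroup with no commuting pair of involutions all involutions agree modulo its odd core. -/
theorem mul_mem_oddCore_of_rank_one (K : Subgroup G)
    (hr : ∀ e ∈ K, ∀ f ∈ K, orderOf e = 2 → orderOf f = 2 → e * f = f * e → e = f) {w w' : G}
    (hw : w ∈ K) (hw' : w' ∈ K) (ho : orderOf w = 2) (ho' : orderOf w' = 2) :
    w * w' ∈ (Cfsg.oddCore ↥K).map K.subtype := by
  haveI : Fact (Nat.Prime 2) := ⟨Nat.prime_two⟩
  obtain ⟨P⟩ : Nonempty (Sylow 2 K) := inferInstance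
  have hrank : ∀ E : Subgroup K, ¬ IsKleinFour E := by
    intro E hE
    haveI := hE
    obtain ⟨x, hx⟩ : ∃ x : E, x ≠ 1 := by
      haveI : Nontrivial E := Finite.one_lt_card_iff_nontrivial.1 (by rw [IsKleinFour.card_four]; norm_num)
      exact exists_ne 1
    obtain ⟨y, hy, hyx⟩ : ∃ y : E, y ≠ 1 ∧ y ≠ x := by
      by_contra hcon
      push Not at hcon
      have hle : Nat.card E ≤ Nat.card Bool := Nat.card_le_card_of_surjective
        (fun b : Bool => if b then (1 : E) else x) fun z => by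
          by_cases hz : z = 1
          · exact ⟨true, hz.symm⟩
          · exact ⟨false, (hcon z hz).symm⟩
      rw [IsKleinFour.card_four, Nat.card_eq_fintype_card, Fintype.card_bool] at hle
      omega
    have ord : ∀ z : E, z ≠ 1 → orderOf ((z : K) : G) = 2 := fun z hz => by
      refine orderOf_eq_two_of (fun h => hz (Subtype.ext (Subtype.ext h))) ?_
      exact congrArg (fun z : E => ((z : K) : G)) (IsKleinFour.mul_self z)
    have hc : x * y = y * x := by
      have h1 := IsKleinFour.mul_self (x * y)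
      rw [← inv_eq_of_mul_eq_one_right h1, mul_inv_rev, inv_eq_of_mul_eq_one_right (IsKleinFour.mul_self x),
        inv_eq_of_mul_eq_one_right (IsKleinFour.mul_self y)]
    exact hyx (Subtype.ext (Subtype.ext (hr _ (x : K).2 _ (y : K).2 (ord x hx) (ord y hy)
      (congrArg (fun z : E => ((z : K) : G)) hc)).symm))
  have heven : Even (Nat.card K) := even_iff_two_dvd.2 (ho ▸ K.orderOf_dvd_natCard hw)
  obtain ⟨z, hzP, hz, huniq⟩ := CfsgLib.ZStar.exists_unique_involution heven hrank P
  have key : ∀ x : K, orderOf x = 2 → x * z ∈ Cfsg.oddCore ↥K := by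
    intro x hx
    obtain ⟨Q, hQ⟩ := (IsPGroup.of_card (p := 2) (n := 1) (G := zpowers x)
      (by rw [Nat.card_zpowers, hx, pow_one])).exists_le_sylow
    obtain ⟨g, hg⟩ := MulAction.exists_smul_eq K Q P
    have hgx : g * x * g⁻¹ ∈ (P : Subgroup K) := by
      rw [← hg, Sylow.coe_subgroup_smul]
      exact ⟨x, hQ (mem_zpowers x), by simp⟩
    have he : g * x * g⁻¹ = z := huniq _ hgx (by rw [CfsgLib.Signalizer.orderOf_conj, hx])
    have h := CfsgLib.ZStar.mem_oddCore_of_unique P hz hzP huniq g⁻¹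
    have e : z * g⁻¹ * z⁻¹ * g⁻¹⁻¹ = z * x := by
      rw [inv_inv, involution_inv hz]
      calc z * g⁻¹ * z * g = z * (g⁻¹ * z * g) := by group
        _ = z * x := by rw [← he]; group
    rw [e] at h
    have := inv_mem h
    rwa [mul_inv_rev, involution_inv hx, involution_inv hz] at this
  have h1 := key ⟨w, hw⟩ (by rw [Subgroup.orderOf_mk, ho])
  have h2 := key ⟨w', hw'⟩ (by rw [Subgroup.orderOf_mk, ho'])
  have h3 := mul_mem h1 (inv_mem h2)
  refine ⟨_, h3, ?_⟩
  simp [mul_assoc, involution_inv ho']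

/-- Coprime generation by the centralisers of a four group. -/
theorem le_of_four_centralizers {R Y : Subgroup G} (hR : Odd (Nat.card R)) {e f : G}
    (he : orderOf e = 2) (hf : orderOf f = 2) (hef : e * f = f * e) (hne : e ≠ f)
    (heR : e ∈ normalizer (R : Set G)) (hfR : f ∈ normalizer (R : Set G))
    (h : ∀ x ∈ R, ∀ a : G, a = e ∨ a = f ∨ a = e * f → x * a = a * x → x ∈ Y) : R ≤ Y := by
  haveI : Fact (Nat.Prime 2) := ⟨Nat.prime_two⟩
  let A : Subgroup G :=
    { carrier := {1, e, f, e * f}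
      one_mem' := by simp
      mul_mem' := by
        intro a b ha hb
        have hee := involution_sq he
        have hff := involution_sq hf
        have hfe : f * e = e * f := hef.symm
        simp only [Set.mem_insert_iff, Set.mem_singleton_iff] at ha hb ⊢
        rcases ha with rfl | rfl | rfl | rfl <;> rcases hb with rfl | rfl | rfl | rfl <;>
          simp [mul_assoc, hee, hff, hfe, mul_left_cancel_iff] <;>
          simp [← mul_assoc, hee, hff, hfe] <;> simp [mul_assoc, hff]
      inv_mem' := by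
        intro a ha
        simp only [Set.mem_insert_iff, Set.mem_singleton_iff] at ha ⊢
        rcases ha with rfl | rfl | rfl | rfl <;> simp [involution_inv he, involution_inv hf, hef] }
  have hmem : ∀ a : G, a ∈ A ↔ a = 1 ∨ a = e ∨ a = f ∨ a = e * f := fun a => by
    show a ∈ ({1, e, f, e * f} : Set G) ↔ _
    simp only [Set.mem_insert_iff, Set.mem_singleton_iff]
  haveI : IsMulCommutative A := ⟨⟨fun a b => Subtype.ext (by
    show (a : G) * b = b * a
    rcases (hmem _).1 a.2 with ha | ha | ha | ha <;> rcases (hmem _).1 b.2 with hb | hb | hb | hb <;>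
      simp [ha, hb, hef, mul_assoc] <;> simp [← mul_assoc, hef])⟩⟩
  have h1 : e ≠ 1 := involution_ne_one he
  have h2 : f ≠ 1 := involution_ne_one hf
  have h3 : e * f ≠ 1 := fun h' => hne (by
    rw [← involution_inv he]; exact (eq_inv_of_mul_eq_one_right h').symm)
  refine CfsgLib.LocalEven.le_of_centralizers_le (p := 2) (A := A) (fun a ha => ?_) ?_ ?_ ?_ ?_
  · rcases (hmem a).1 ha with rfl | rfl | rfl | rfl
    · simp
    · rw [pow_two, involution_sq he]
    · rw [pow_two, involution_sq hf]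
    · rw [(Commute.mul_pow hef), pow_two, pow_two, involution_sq he, involution_sq hf, one_mul]
  · show 2 ^ 2 ≤ Nat.card ({1, e, f, e * f} : Set G)
    rw [Nat.card_coe_set_eq, Set.ncard_insert_of_notMem (by simp [h1.symm, h2.symm, h3.symm]),
      Set.ncard_insert_of_notMem (by simp [hne, h2]), Set.ncard_pair (by simp [h1])]
    norm_num
  · intro a ha
    rcases (hmem a).1 ha with rfl | rfl | rfl | rfl
    · exact one_mem _
    · exact heR
    · exact hfR
    · exact mul_mem heR hfR
  · exact fun h' => Nat.not_even_iff_odd.2 hR (even_iff_two_dvd.2 h')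
  · intro a ha ha1 x hx
    refine h x hx.1 a ?_ (mem_centralizer_singleton_iff.1 hx.2)
    rcases (hmem a).1 ha with h' | h' | h' | h'
    · exact absurd h' ha1
    · exact Or.inl h'
    · exact Or.inr (Or.inl h')
    · exact Or.inr (Or.inr h')

section Coprime

variable {p : ℕ} [Fact p.Prime] {R D : Subgroup G} {u : G}

/-- An invariant Sylow subgroup meets the centraliser of an involution in a Sylow subgroup of it. -/
theorem IsSyl.inf_centralizer (h : IsSyl p R D) (hD : Odd (Nat.card D)) (hu : orderOf u = 2)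
    (huD : u ∈ normalizer (D : Set G)) (huR : u ∈ normalizer (R : Set G)) :
    IsSyl p (R ⊓ centralizer {u}) (D ⊓ centralizer {u}) := by
  obtain ⟨C, hC, hle⟩ := exists_isSyl_ge (p := p) (h.isPGroup.to_le inf_le_left)
    (inf_le_inf_right (centralizer ({u} : Set G)) h.le)
  have hA : zpowers u ≤ normalizer (D : Set G) := zpowers_le.2 huD
  have hcop : (Nat.card (zpowers u)).Coprime (Nat.card D) := by
    rw [Nat.card_zpowers, hu]; exact Nat.coprime_two_left.2 hD
  have hsolv : Group.IsSolvable (zpowers u) ∨ Group.IsSolvable D := Or.inl inferInstance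
  have hCu : zpowers u ≤ normalizer (C : Set G) := by
    rw [zpowers_le, mem_normalizer_iff]
    intro x
    constructor
    · intro hx
      rwa [← mem_centralizer_singleton_iff.1 (hC.le hx).2, mul_inv_cancel_right]
    · intro hx
      have := mem_centralizer_singleton_iff.1 (hC.le hx).2
      have e : x = u⁻¹ * (u * x * u⁻¹) * u := by group
      rw [e, mul_assoc, this, inv_mul_cancel_left]
      exact hx
  obtain ⟨P', hCP, hP'u⟩ := CfsgLib.Core.exists_invariant_sylow_ge hA hcop hsolv
    (hC.le.trans inf_le_left) hC.isPGroup hCu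
  set P := (P' : Subgroup D).map D.subtype with hPdef
  have hP : IsSyl p P D := ⟨map_subtype_le _, by
    rw [← Nat.card_congr ((P' : Subgroup D).equivMapOfInjective _ D.subtype_injective).toEquiv]
    exact P'.card_eq_multiplicity⟩
  obtain ⟨k, hk, hkP⟩ := hP.exists_conj h
  obtain ⟨c, hc, hcP⟩ := CfsgLib.Core.exists_centralizing_conj hA hcop hsolv hP'u (zpowers_le.2 huR)
    ⟨k, hk, by rw [CfsgLib.Core.conj_smul_eq_map]; exact hkP⟩
  rw [CfsgLib.Core.conj_smul_eq_map] at hcP
  refine ⟨inf_le_inf_right _ h.le, ?_⟩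
  refine le_antisymm ?_ ?_
  · rw [← hC.2]
    exact card_le_of_le hle
  · rw [← hC.2, ← card_map_conj c C]
    refine card_le_of_le fun x hx => ?_
    obtain ⟨y, hy, rfl⟩ := hx
    refine ⟨hcP ▸ ⟨y, hCP hy, rfl⟩, mem_centralizer_singleton_iff.2 ?_⟩
    have hcu : Commute c u := ((mem_centralizer_iff.1 hc.2 u (mem_zpowers u))).symm
    have hyu : Commute y u := mem_centralizer_singleton_iff.1 (hC.le hy).2
    exact ((hcu.mul_left hyu).mul_left hcu.inv_left).eq

end Coprime

end CfsgLib.Bender
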