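import Cfsg.Agent.Lib.Bender.Setting

/-!
Owner: helper29. Involution images modulo the odd core of a stabiliser, classes of `p`-subgroups, and
counting in invariant Sylow subgroups.
-/

set_option autoImplicit false
set_option linter.style.haveILetI false
set_option linter.unusedSectionVars false

namespace CfsgLib.Bender

open Subgroup MulAction
open CfsgLib.Signalizer (involution_sq involution_inv orderOf_eq_two_of involution_ne_one)

variable {G Ω : Type*} [Group G] [Finite G] [MulAction G Ω] [Finite Ω]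

variable (G) in
/-- Congruence modulo the core. -/
def congrSetoid (x : Ω) : Setoid {t : G // InvAt t x} where
  r s t := (s : G) * t ∈ core G x
  iseqv :=
    { refl := fun t => congr_refl t.2
      symm := fun {s t} h => congr_symm s.2 t.2 h
      trans := fun {_ s _} h₁ h₂ => congr_trans s.2 h₁ h₂ }

variable (G) in
/-- The images of the involutions at `x` modulo the core. -/
abbrev Img (x : Ω) : Type _ := Quotient (congrSetoid G x)

instance imgAction (x : Ω) : MulAction (stabilizer G x) (Img G x) where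
  smul g := Quotient.map (fun t => ⟨g * t * (g : G)⁻¹, t.2.conj' g.2⟩)
    fun _ _ h => congr_conj g.2 h
  one_smul q := by
    induction q using Quotient.inductionOn
    exact congrArg _ (Subtype.ext (by simp))
  mul_smul g g' q := by
    induction q using Quotient.inductionOn
    exact congrArg _ (Subtype.ext (by simp [mul_assoc]))

/-- The image of an involution. -/
def img {x : Ω} {t : G} (ht : InvAt t x) : Img G x := Quotient.mk _ ⟨t, ht⟩

theorem img_eq_iff {x : Ω} {s t : G} (hs : InvAt s x) (ht : InvAt t x) :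
    img hs = img ht ↔ s * t ∈ core G x := Quotient.eq

theorem smul_img {x : Ω} {t : G} (ht : InvAt t x) (g : stabilizer G x) :
    g • img ht = img (ht.conj' g.2) := rfl

/-- `R` fixes an involution at `x` modulo the core. -/
def FixesMod (x : Ω) (R : Subgroup G) : Prop :=
  ∃ t : G, InvAt t x ∧ ∀ r ∈ R, r * t * r⁻¹ * t ∈ core G x

/-- `R` fixes `x` and no involution at `x` modulo the core. -/
def IsClassAt (x : Ω) (R : Subgroup G) : Prop := R ≤ stabilizer G x ∧ ¬ FixesMod x R

theorem IsClassAt.mono {x : Ω} {R S : Subgroup G} (h : IsClassAt x R) (hRS : R ≤ S)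
    (hS : S ≤ stabilizer G x) : IsClassAt x S :=
  ⟨hS, fun ⟨t, ht, hf⟩ => h.2 ⟨t, ht, fun r hr => hf r (hRS hr)⟩⟩

theorem FixesMod.conj {x : Ω} {R : Subgroup G} (h : FixesMod x R) (g : G) :
    FixesMod (g • x) (R.map (MulAut.conj g).toMonoidHom) := by
  obtain ⟨t, ht, hf⟩ := h
  refine ⟨g * t * g⁻¹, ht.conj g, ?_⟩
  rintro r ⟨r, hr, rfl⟩
  have := core_smul_mem g (hf r hr)
  simpa [mul_assoc] using this

theorem IsClassAt.conj {x : Ω} {R : Subgroup G} (h : IsClassAt x R) (g : G) :
    IsClassAt (g • x) (R.map (MulAut.conj g).toMonoidHom) := by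
  refine ⟨by rw [stabilizer_smul_eq]; exact map_mono h.1, fun hf => h.2 ?_⟩
  have := hf.conj g⁻¹
  rw [inv_smul_smul, Subgroup.map_map] at this
  have e : ((MulAut.conj g⁻¹).toMonoidHom.comp (MulAut.conj g).toMonoidHom) = MonoidHom.id G := by
    ext r; simp [mul_assoc]
  rwa [e, Subgroup.map_id] at this

variable (hS : Setting G Ω)
include hS

namespace Setting

theorem not_class_of_normalizes {x : Ω} {R : Subgroup G} (hodd : Odd (Nat.card R)) {t : G}
    (ht : InvAt t x) (htR : t ∈ normalizer (R : Set G)) : ¬ IsClassAt x R :=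
  fun h => h.2 ⟨t, ht, fun _ hr => hS.fixes_of_normalizes h.1 hodd ht htR hr⟩

theorem dvd_card_img {x : Ω} {R : Subgroup G} {p : ℕ} [Fact p.Prime] (hR : IsPGroup p R)
    (h : IsClassAt x R) : p ∣ Nat.card (Img G x) := by
  have hp : IsPGroup p (R.subgroupOf (stabilizer G x)) := hR.of_equiv (subgroupOfEquivOfLe h.1).symm
  have h0 : fixedPoints (R.subgroupOf (stabilizer G x)) (Img G x) = ∅ := by
    refine Set.eq_empty_of_forall_notMem fun q hq => ?_
    induction q using Quotient.inductionOn with
    | _ t =>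
      refine h.2 ⟨t, t.2, fun r hr => ?_⟩
      have := hq ⟨⟨r, h.1 hr⟩, mem_subgroupOf.2 hr⟩
      exact Quotient.exact this
  have := hp.card_modEq_card_fixedPoints (Img G x)
  rw [h0, Nat.card_coe_set_eq, Set.ncard_empty] at this
  exact Nat.modEq_zero_iff_dvd.1 this

theorem invAt_mul {x : Ω} {s t : G} (hs : InvAt s x) (ht : InvAt t x) (hne : s ≠ t)
    (hc : s * t = t * s) : InvAt (s * t) x := by
  refine ⟨orderOf_eq_two_of (fun h => hne ?_) ?_, by rw [mul_smul, ht.2, hs.2]⟩
  · rw [← involution_inv hs.1]; exact (eq_inv_of_mul_eq_one_right h).symm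
  · rw [mul_assoc, hc, ← mul_assoc t, involution_sq ht.1, one_mul, involution_sq hs.1]

theorem mul_notMem_core {x : Ω} {s t : G} (hs : InvAt s x) (ht : InvAt t x) (hne : s ≠ t)
    (hc : s * t = t * s) : s * t ∉ core G x :=
  not_mem_of_odd (core_odd x) (hS.invAt_mul hs ht hne hc).1

theorem three_le_card_img (x : Ω) : 3 ≤ Nat.card (Img G x) := by
  obtain ⟨s, t, hs, ht, hne, hc⟩ := hS.four x
  have hst := hS.invAt_mul hs ht hne hc
  have h1 : img hs ≠ img ht := fun h => hS.mul_notMem_core hs ht hne hc ((img_eq_iff hs ht).1 h)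
  have h2 : img hs ≠ img hst := fun h => by
    have := (img_eq_iff hs hst).1 h
    rw [← mul_assoc, involution_sq hs.1, one_mul] at this
    exact not_mem_of_odd (core_odd x) ht.1 this
  have h3 : img ht ≠ img hst := fun h => by
    have := (img_eq_iff ht hst).1 h
    rw [hc, ← mul_assoc, involution_sq ht.1, one_mul] at this
    exact not_mem_of_odd (core_odd x) hs.1 this
  have hinj : Function.Injective (![img hs, img ht, img hst] : Fin 3 → Img G x) := by
    intro i j hij
    fin_cases i <;> fin_cases j <;> simp_all [h1.symm]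
  simpa using Nat.card_le_card_of_injective _ hinj

theorem exists_smul_img {x y : Ω} (hxy : x ≠ y) (q q' : Img G x) :
    ∃ d : stabilizer G x, (d : G) ∈ pairStab G x y ∧ d • q = q' := by
  induction q using Quotient.inductionOn with
  | _ s =>
    induction q' using Quotient.inductionOn with
    | _ t =>
      obtain ⟨d, hd, he⟩ := hS.conj_fixing hxy s.2 t.2
      refine ⟨⟨d, hd.1⟩, hd, ?_⟩
      refine congrArg (Quotient.mk _) (Subtype.ext ?_)
      exact he

/-- The stabiliser of an image in a two-point stabiliser. -/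
theorem exists_index_card {x y : Ω} (hxy : x ≠ y) (q : Img G x) :
    ∃ T : Subgroup G, T ≤ pairStab G x y ∧
      (∀ d : stabilizer G x, (d : G) ∈ T ↔ (d : G) ∈ pairStab G x y ∧ d • q = q) ∧
      Nat.card T * Nat.card (Img G x) = Nat.card (pairStab G x y) := by
  set D := (pairStab G x y).subgroupOf (stabilizer G x)
  refine ⟨(D ⊓ stabilizer (stabilizer G x) q).map (stabilizer G x).subtype, ?_, fun d => ?_, ?_⟩
  · rintro _ ⟨d, hd, rfl⟩
    exact mem_subgroupOf.1 hd.1
  · exact ⟨fun ⟨e, he, hed⟩ => by rw [← Subtype.ext hed]; exact ⟨mem_subgroupOf.1 he.1, he.2⟩,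
      fun h => ⟨d, ⟨mem_subgroupOf.2 h.1, h.2⟩, rfl⟩⟩
  · have ho : orbit D q = Set.univ := by
      refine Set.eq_univ_of_forall fun q' => ?_
      obtain ⟨d, hd, he⟩ := hS.exists_smul_img hxy q q'
      exact ⟨⟨d, mem_subgroupOf.2 hd⟩, he⟩
    have h1 := Nat.card_congr (orbitProdStabilizerEquivGroup D q)
    rw [Nat.card_prod, ho, Nat.card_congr (Equiv.Set.univ _),
      Nat.card_congr (subgroupOfEquivOfLe inf_le_left).toEquiv] at h1
    have e : stabilizer D q = (D ⊓ stabilizer (stabilizer G x) q).subgroupOf D := by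
      ext d
      exact ⟨fun h => ⟨d.2, h⟩, fun h => h.2⟩
    rw [e, Nat.card_congr (subgroupOfEquivOfLe inf_le_left).toEquiv] at h1
    rw [← Nat.card_congr (Subgroup.equivMapOfInjective _ _ (stabilizer G x).subtype_injective).toEquiv,
      mul_comm]
    exact h1

theorem card_img_odd (x : Ω) : Odd (Nat.card (Img G x)) := by
  obtain ⟨y, hy⟩ := hS.exists_ne x
  obtain ⟨t, ht⟩ := hS.exists_invAt x
  obtain ⟨T, -, -, hT⟩ := hS.exists_index_card hy.symm (img ht)
  exact (hS.odd_pairStab hy.symm).of_dvd_nat (Dvd.intro_left _ hT)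

theorem exists_prime_dvd_img (x : Ω) :
    ∃ p : ℕ, p.Prime ∧ Odd p ∧ p ∣ Nat.card (Img G x) := by
  obtain ⟨p, hp, hd⟩ := Nat.exists_prime_and_dvd
    (show Nat.card (Img G x) ≠ 1 by have := hS.three_le_card_img x; omega)
  exact ⟨p, hp, (hS.card_img_odd x).of_dvd_nat hd, hd⟩

theorem class_of_syl {x y : Ω} (hxy : x ≠ y) {p : ℕ} [Fact p.Prime] {P : Subgroup G}
    (hP : IsSyl p P (pairStab G x y)) (hd : p ∣ Nat.card (Img G x)) : IsClassAt x P := by
  refine ⟨hP.le.trans inf_le_left, ?_⟩
  rintro ⟨t, ht, hf⟩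
  obtain ⟨T, hT, hmem, hcard⟩ := hS.exists_index_card hxy (img ht)
  have hPT : P ≤ T := fun r hr =>
    (hmem ⟨r, (hP.le hr).1⟩).2 ⟨hP.le hr, Quotient.sound (hf r hr)⟩
  have h1 := vp_card_mono (p := p) hPT
  have h2 := congrArg (vp p) hcard
  have h3 := hP.vp_eq
  simp only [vp, Nat.factorization_mul Nat.card_pos.ne'
    (show Nat.card (Img G x) ≠ 0 by have := hS.three_le_card_img x; omega), Finsupp.add_apply] at h2
  have h4 := (Fact.out : p.Prime).factorization_pos_of_dvd
    (show Nat.card (Img G x) ≠ 0 by have := hS.three_le_card_img x; omega) hd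
  simp only [vp] at h1 h3
  omega

theorem card_core_centralizer {x : Ω} {y : Ω} (hxy : x ≠ y) {s t : G} (hs : InvAt s x)
    (ht : InvAt t x) :
    Nat.card (core G x ⊓ centralizer {s} : Subgroup G) =
      Nat.card (core G x ⊓ centralizer {t} : Subgroup G) := by
  obtain ⟨d, hd, he⟩ := hS.conj_fixing hxy hs ht
  rw [← card_map_conj d (core G x ⊓ centralizer {s})]
  congr 2
  ext w
  simp only [mem_map_conj, Subgroup.mem_inf, mem_centralizer_singleton_iff]
  have hdx : d • x = x := hd.1
  constructor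
  · rintro ⟨h1, h2⟩
    refine ⟨by simpa [mul_assoc] using core_conj_mem hdx h1, ?_⟩
    calc w * t = d * ((d⁻¹ * w * d) * s) * d⁻¹ := by rw [← he]; group
      _ = t * w := by rw [h2, ← he]; group
  · rintro ⟨h1, h2⟩
    refine ⟨by simpa [mul_assoc] using core_conj_mem (inv_smul_eq_iff.2 hdx.symm) h1, ?_⟩
    calc d⁻¹ * w * d * s = d⁻¹ * (w * t) * d := by rw [← he]; group
      _ = s * (d⁻¹ * w * d) := by rw [h2, ← he]; group

theorem card_invAt {x : Ω} {t : G} (ht : InvAt t x) :
    Nat.card {t : G // InvAt t x} * Nat.card (core G x ⊓ centralizer {t} : Subgroup G) =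
      Nat.card (Img G x) * Nat.card (core G x) := by
  classical
  obtain ⟨y, hy⟩ := hS.exists_ne x
  have := Fintype.ofFinite (Img G x)
  rw [← Nat.card_congr (Equiv.sigmaFiberEquiv (fun s : {t : G // InvAt t x} => Quotient.mk (congrSetoid G x) s)),
    Nat.card_sigma, Finset.sum_mul, Finset.sum_congr rfl (g := fun _ => Nat.card (core G x)),
    Finset.sum_const, smul_eq_mul, Finset.card_univ, ← Nat.card_eq_fintype_card]
  intro q _
  induction q using Quotient.inductionOn with
  | _ s =>
    rw [hS.card_core_centralizer hy.symm ht s.2]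
    refine Eq.trans ?_ (card_conj_class (core G x) (s : G))
    congr 1
    refine Nat.card_congr
      { toFun := fun r => ⟨(r.1 : G), ?_⟩
        invFun := fun r => ⟨⟨r.1, ?_⟩, ?_⟩
        left_inv := fun r => rfl
        right_inv := fun r => rfl }
    · obtain ⟨w, hw, he⟩ := exists_core_conj r.1.2 s.2 (Quotient.exact r.2)
      exact ⟨w⁻¹, inv_mem hw, by rw [← he]; group⟩
    · obtain ⟨w, hw, he⟩ := r.2
      exact he ▸ s.2.conj' (core_smul x hw)
    · obtain ⟨w, hw, he⟩ := r.2
      refine Quotient.sound ?_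
      show (r.1 : G) * s ∈ core G x
      rw [← he]
      have : w * (s : G) * w⁻¹ * s = w * ((s : G) * w⁻¹ * (s : G)⁻¹) := by
        rw [involution_inv s.2.1]; group
      rw [this]
      exact mul_mem hw (core_conj_mem s.2.2 (inv_mem hw))

/-- A Sylow subgroup of a subgroup fixing an image is normalised by an involution of that image. -/
theorem exists_invAt_normalizer {x : Ω} {p : ℕ} [Fact p.Prime] (hp : Odd p) {Γ P : Subgroup G}
    (hΓ : Γ ≤ stabilizer G x) (hW : core G x ≤ Γ) {t : G} (ht : InvAt t x)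
    (hfix : ∀ g ∈ Γ, g * t * g⁻¹ * t ∈ core G x) (hP : IsSyl p P Γ) :
    ∃ u : G, InvAt u x ∧ u ∈ normalizer (P : Set G) ∧ u * t ∈ core G x := by
  set C := Γ ⊓ centralizer {t} with hC
  set W := core G x with hWdef
  have hCn : C ≤ normalizer (W : Set G) := (inf_le_left.trans hΓ).trans (le_normalizer_core x)
  have hsup : C ⊔ W = Γ := by
    refine le_antisymm (sup_le inf_le_left hW) fun g hg => ?_
    obtain ⟨w, hw, he⟩ := exists_core_conj (ht.conj' (hΓ hg)) ht (hfix g hg)
    rw [show g = w⁻¹ * (w * g) by group]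
    refine mul_mem (mem_sup_right (inv_mem hw)) (mem_sup_left ⟨mul_mem (hW hw) hg, ?_⟩)
    refine mem_centralizer_singleton_iff.2 ?_
    rw [← mul_inv_eq_iff_eq_mul]
    conv_rhs => rw [← he]
    group
  obtain ⟨Cp, hCp⟩ := exists_isSyl p C
  set K₀ := Cp ⊔ W with hK0
  have hCpn : Cp ≤ normalizer (W : Set G) := hCp.le.trans hCn
  have hK0odd : Odd (Nat.card K₀) := by
    refine Odd.of_dvd_nat ?_ (CfsgLib.Core.card_sup_dvd Cp W hCpn)
    refine Nat.odd_mul.2 ⟨?_, core_odd x⟩
    rw [hCp.2]
    exact hp.pow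
  have htK : zpowers t ≤ normalizer (K₀ : Set G) := by
    rw [zpowers_le]
    refine mem_normalizer_of_map_conj_eq ?_
    rw [hK0, Subgroup.map_sup]
    congr 1
    · refine map_conj_eq_of_mem_normalizer (mem_normalizer_iff.2 fun c => ⟨fun hc => ?_, fun hc => ?_⟩)
      · rwa [← mem_centralizer_singleton_iff.1 (hCp.le hc).2, mul_inv_cancel_right]
      · have h := mem_centralizer_singleton_iff.1 (hCp.le hc).2
        have e : c = t⁻¹ * (t * c * t⁻¹) * t := by group
        rw [e, mul_assoc, h, inv_mul_cancel_left]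
        exact hc
    · exact map_conj_eq_of_mem_normalizer (le_normalizer_core x ht.2)
  have hcop : (Nat.card (zpowers t)).Coprime (Nat.card K₀) := by
    rw [Nat.card_zpowers, ht.1]; exact Nat.coprime_two_left.2 hK0odd
  obtain ⟨P0, hP0⟩ := CfsgLib.Core.exists_invariant_sylow htK hcop (Or.inl inferInstance) p
  set P₁ := (P0 : Subgroup K₀).map K₀.subtype with hP1
  have hK0Γ : K₀ ≤ Γ := sup_le (hCp.le.trans inf_le_left) hW
  have hP1Γ : IsSyl p P₁ Γ := by
    refine ⟨(map_subtype_le _).trans hK0Γ, ?_⟩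
    rw [← Nat.card_congr ((P0 : Subgroup K₀).equivMapOfInjective _ K₀.subtype_injective).toEquiv,
      P0.card_eq_multiplicity]
    congr 1
    refine le_antisymm (vp_card_mono hK0Γ) ?_
    have e1 := congrArg (vp p) (CfsgLib.Core.card_sup_mul_card_inf C W hCn)
    have e2 := congrArg (vp p) (CfsgLib.Core.card_sup_mul_card_inf Cp W hCpn)
    simp only [vp, Nat.factorization_mul Nat.card_pos.ne' Nat.card_pos.ne', Finsupp.add_apply] at e1 e2
    rw [hsup] at e1
    have e3 := vp_card_mono (p := p) (inf_le_inf_right W hCp.le)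
    have e4 := hCp.vp_eq
    simp only [vp, ← hK0] at e2 e3 e4 ⊢
    omega
  obtain ⟨g, hg, hgP⟩ := hP1Γ.exists_conj hP
  refine ⟨g * t * g⁻¹, ht.conj' (hΓ hg), ?_, hfix g hg⟩
  refine mem_normalizer_of_map_conj_eq ?_
  have htP : P₁.map (MulAut.conj t).toMonoidHom = P₁ :=
    map_conj_eq_of_mem_normalizer (hP0 (mem_zpowers t))
  subst hgP
  calc (P₁.map (MulAut.conj g).toMonoidHom).map (MulAut.conj (g * t * g⁻¹)).toMonoidHom
      = (P₁.map (MulAut.conj t).toMonoidHom).map (MulAut.conj g).toMonoidHom := by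
        rw [Subgroup.map_map P₁, Subgroup.map_map P₁]
        exact congrArg (fun f => P₁.map f) (MonoidHom.ext fun r => by simp [mul_assoc])
    _ = P₁.map (MulAut.conj g).toMonoidHom := by rw [htP]

/-- The inverted part of an invariant Sylow subgroup above the core is that of the core. -/
theorem vp_inverted {x : Ω} {p : ℕ} [Fact p.Prime] {R : Subgroup G} (hR : R ≤ stabilizer G x)
    (hp : Odd p) (hsyl : IsSyl p R (R ⊔ core G x)) {u : G} (hu : InvAt u x)
    (huR : u ∈ normalizer (R : Set G)) :
    vp p (Nat.card R) + vp p (Nat.card (core G x ⊓ centralizer {u} : Subgroup G)) =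
      vp p (Nat.card (R ⊓ centralizer {u} : Subgroup G)) + vp p (Nat.card (core G x)) := by
  set W := core G x with hW
  have hRn : R ≤ normalizer (W : Set G) := hR.trans (le_normalizer_core x)
  have hodd : Odd (Nat.card R) := by rw [hsyl.2]; exact hp.pow
  have hWn : u ∈ normalizer (W : Set G) := le_normalizer_core x hu.2
  have hRW : IsSyl p (R ⊓ W) W :=
    hsyl.inf_of_le_normalizer le_sup_right (sup_le hRn le_normalizer)
  have huRW : u ∈ normalizer ((R ⊓ W : Subgroup G) : Set G) := by
    refine mem_normalizer_of_map_conj_eq ?_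
    rw [Subgroup.map_inf _ _ _ (MulAut.conj u).injective, map_conj_eq_of_mem_normalizer huR,
      map_conj_eq_of_mem_normalizer hWn]
  have hC := hRW.inf_centralizer (core_odd x) hu.1 hWn huRW
  have hA : zpowers u ≤ normalizer ((R ⊓ W : Subgroup G) : Set G) := zpowers_le.2 huRW
  have hcop : (Nat.card (zpowers u)).Coprime (Nat.card (R ⊓ W : Subgroup G)) := by
    rw [Nat.card_zpowers, hu.1]; exact Nat.coprime_two_left.2 (odd_of_le inf_le_left hodd)
  have hsup : (R ⊓ centralizer {u}) ⊔ (R ⊓ W) = R := by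
    refine le_antisymm (sup_le inf_le_left inf_le_left) fun r hr => ?_
    obtain ⟨n, hn, hc⟩ := CfsgLib.Core.exists_centralizing_in_coset hA hcop (Or.inl inferInstance)
      (k := r) (by
        intro a ha
        have ha' : a = 1 ∨ a = u := by
          obtain ⟨k, rfl⟩ := mem_zpowers_iff.1 ha
          have h1 := zpow_mod_orderOf u k
          rw [hu.1] at h1
          rw [← h1]
          rcases Int.emod_two_eq_zero_or_one k with h | h <;> norm_num [h]
        rcases ha' with rfl | rfl
        · simp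
        · have hm : a * r * a⁻¹ ∈ R := (mem_normalizer_iff.1 huR r).1 hr
          refine Subgroup.mem_inf.2 ⟨mul_mem (inv_mem hr) hm, ?_⟩
          have h := hS.fixes_of_normalizes hR hodd hu huR (inv_mem hr)
          rw [inv_inv] at h
          rw [involution_inv hu.1]
          simpa [mul_assoc] using h)
    rw [show r = r * n * n⁻¹ by group]
    exact mul_mem (mem_sup_left ⟨mul_mem hr hn.1, mem_centralizer_singleton_iff.2
      ((mem_centralizer_iff.1 hc u (mem_zpowers u))).symm⟩) (mem_sup_right (inv_mem hn))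
  have hn : R ⊓ centralizer {u} ≤ normalizer ((R ⊓ W : Subgroup G) : Set G) := by
    intro r hr
    refine mem_normalizer_of_map_conj_eq ?_
    rw [Subgroup.map_inf _ _ _ (MulAut.conj r).injective,
      map_conj_eq_of_mem_normalizer (le_normalizer hr.1), map_conj_eq_of_mem_normalizer (hRn hr.1)]
  have e := congrArg (vp p) (CfsgLib.Core.card_sup_mul_card_inf _ _ hn)
  simp only [vp, Nat.factorization_mul Nat.card_pos.ne' Nat.card_pos.ne', Finsupp.add_apply] at e
  rw [hsup] at e
  have e1 := hRW.vp_eq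
  have e2 := hC.vp_eq
  have e3 : R ⊓ centralizer {u} ⊓ (R ⊓ W) = R ⊓ W ⊓ centralizer {u} := by
    ext r
    simp only [Subgroup.mem_inf]
    tauto
  rw [e3] at e
  simp only [vp] at e1 e2 ⊢
  omega

end Setting

end CfsgLib.Bender
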