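import Cfsg.Agent.Lib.Bender.Fibre

/-!
Owner: helper29. Swapping involutions, fixed points of chains of `p`-groups, transport of the counts.
-/

set_option autoImplicit false
set_option linter.style.haveILetI false
set_option linter.unusedSectionVars false

namespace CfsgLib.Bender

open Subgroup MulAction
open CfsgLib.Signalizer (involution_sq involution_inv orderOf_eq_two_of involution_ne_one)

variable {G Ω : Type*} [Group G] [Finite G] [MulAction G Ω] [Finite Ω]

theorem smul_of_mem_normalizer {R : Subgroup G} {g : G} (hg : g ∈ normalizer (R : Set G)) {x : Ω}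
    (hx : R ≤ stabilizer G x) : R ≤ stabilizer G (g • x) := by
  rw [stabilizer_smul_eq, ← map_conj_eq_of_mem_normalizer hg]
  exact map_mono hx

theorem IsClassAt.normalizer_smul {R : Subgroup G} {g : G} (hg : g ∈ normalizer (R : Set G)) {x : Ω}
    (h : IsClassAt x R) : IsClassAt (g • x) R := by
  have := h.conj g
  rwa [map_conj_eq_of_mem_normalizer hg] at this

variable (G) in
/-- The elements of the stabiliser fixing one image. -/
def imgFix {x : Ω} {t : G} (ht : InvAt t x) : Subgroup G :=
  (stabilizer (stabilizer G x) (img ht)).map (stabilizer G x).subtype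

theorem mem_imgFix {x : Ω} {t : G} (ht : InvAt t x) {g : G} :
    g ∈ imgFix G ht ↔ g • x = x ∧ g * t * g⁻¹ * t ∈ core G x := by
  constructor
  · rintro ⟨g, hg, rfl⟩
    exact ⟨g.2, Quotient.exact hg⟩
  · rintro ⟨hg, h⟩
    exact ⟨⟨g, hg⟩, Quotient.sound h, rfl⟩

theorem core_le_imgFix {x : Ω} {t : G} (ht : InvAt t x) : core G x ≤ imgFix G ht := fun w hw => by
  refine (mem_imgFix ht).2 ⟨core_smul x hw, ?_⟩
  have : w * t * w⁻¹ * t = w * (t * w⁻¹ * t⁻¹) := by rw [involution_inv ht.1]; group
  rw [this]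
  exact mul_mem hw (core_conj_mem ht.2 (inv_mem hw))

/-- Fixed points of a `p`-group containing one with two fixed points. -/
theorem le_stab_of_chain {p : ℕ} [Fact p.Prime] {B : Subgroup G} (hB : IsPGroup p B) {a b : Ω}
    (hab : a ≠ b) (hBa : B ≤ stabilizer G a) :
    ∀ A : Subgroup G, A ≤ B → A ≤ stabilizer G b →
      (∀ y : Ω, A ≤ stabilizer G y → y = a ∨ y = b) → B ≤ stabilizer G b := by
  intro A
  induction h : (Nat.card B - Nat.card A) using Nat.strong_induction_on generalizing A with
  | _ m ih =>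
    intro hAB hAb hfix
    by_cases hne : A = B
    · rw [← hne]; exact hAb
    obtain ⟨g, hgB, hgA, hg⟩ := exists_mem_normalizer_notMem hB hAB hne
    have hgb : g • b = b := by
      rcases hfix _ (smul_of_mem_normalizer hgA hAb) with h' | h'
      · exact absurd (smul_left_cancel g (h'.trans (show g • a = a from hBa hgB).symm)) hab.symm
      · exact h'
    have hlt : A < A ⊔ zpowers g := lt_of_le_of_ne le_sup_left fun e =>
      hg (e ▸ mem_sup_right (mem_zpowers g))
    have hle : A ⊔ zpowers g ≤ B := sup_le hAB (zpowers_le.2 hgB)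
    refine ih _ ?_ _ rfl hle (sup_le hAb (zpowers_le.2 hgb)) fun y hy => hfix y (le_sup_left.trans hy)
    have h1 : Nat.card A < Nat.card (A ⊔ zpowers g : Subgroup G) := by
      by_contra hcon
      exact hlt.ne (eq_of_le_of_card_ge le_sup_left (not_lt.1 hcon))
    have h2 := card_le_of_le hle
    omega

variable (hS : Setting G Ω)
include hS

namespace Setting

theorem exists_inv_of_swap {H : Subgroup G} {x : G} (hx : x ∈ H) {a b : Ω} (hab : a ≠ b)
    (h : x • a = b) (h' : x • b = a) : ∃ u ∈ H, orderOf u = 2 ∧ u • a = b := by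
  have hD : x * x ∈ pairStab G a b :=
    ⟨show (x * x) • a = a by rw [mul_smul, h, h'], show (x * x) • b = b by rw [mul_smul, h', h]⟩
  obtain ⟨n, hn⟩ := (hS.odd_pairStab hab).of_dvd_nat (orderOf_dvd_natCard _ hD)
  have hua : x ^ (2 * n + 1) • a = b := by
    have h1 : (x * x) ^ n • a = a := (stabilizer G a).pow_mem hD.1 n
    rw [pow_succ', pow_mul, pow_two, mul_smul, h1, h]
  refine ⟨x ^ (2 * n + 1), H.pow_mem hx _, orderOf_eq_two_of ?_ ?_, hua⟩
  · intro he
    rw [he, one_smul] at hua
    exact hab hua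
  · rw [← pow_add, ← two_mul, pow_mul, pow_two, ← hn, pow_orderOf_eq_one]

theorem swap_of_syl {a b : Ω} (hab : a ≠ b) {p : ℕ} [Fact p.Prime] {R : Subgroup G}
    (hR : IsSyl p R (pairStab G a b)) :
    ∃ u ∈ normalizer (R : Set G), orderOf u = 2 ∧ u • a = b := by
  obtain ⟨v, hv, hva⟩ := hS.exists_swapper hab
  have h1 := hR.map_conj v
  rw [map_conj_eq_of_mem_normalizer (hS.swapper_normalizer hv hva)] at h1
  obtain ⟨d, hd, he⟩ := h1.exists_conj hR
  have hdv : d * v ∈ normalizer (R : Set G) := by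
    refine mem_normalizer_of_map_conj_eq ?_
    conv_rhs => rw [← he, Subgroup.map_map]
    congr 1
    ext r
    simp [mul_assoc]
  refine hS.exists_inv_of_swap hdv hab ?_ ?_
  · rw [mul_smul, hva]; exact hd.2
  · rw [mul_smul, swap_back hS hv hva]; exact hd.1

theorem card_stab_eq (x y : Ω) : Nat.card (stabilizer G x) = Nat.card (stabilizer G y) := by
  obtain ⟨g, rfl⟩ := hS.trans x y
  rw [stabilizer_smul_eq, card_map_conj]

/-- A Sylow subgroup of a two-point stabiliser with two fixed points is Sylow in both stabilisers. -/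
theorem syl_stab_of_fix {a b : Ω} (hab : a ≠ b) {p : ℕ} [Fact p.Prime] {P : Subgroup G}
    (hP : IsSyl p P (pairStab G a b)) (hfix : ∀ y : Ω, P ≤ stabilizer G y → y = a ∨ y = b) :
    IsSyl p P (stabilizer G a) ∧ IsSyl p P (stabilizer G b) := by
  obtain ⟨S, hS', hPS⟩ := exists_isSyl_ge hP.isPGroup (hP.le.trans inf_le_left)
  have hSb := le_stab_of_chain hS'.isPGroup hab hS'.le P hPS (hP.le.trans inf_le_right) hfix
  obtain rfl := hP.eq_of_le hS'.isPGroup hPS (le_inf hS'.le hSb)
  exact ⟨hS', hSb, by rw [hS'.2, hS.card_stab_eq a b]⟩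

theorem card_invAt_eq (x y : Ω) :
    Nat.card {t : G // InvAt t x} = Nat.card {t : G // InvAt t y} := by
  obtain ⟨g, rfl⟩ := hS.trans x y
  exact Nat.card_congr ((MulAut.conj g).toEquiv.subtypeEquiv fun t =>
    ⟨fun h => by simpa using h.conj g, fun h => by simpa [mul_assoc] using h.conj g⁻¹⟩)

theorem card_img_eq (x y : Ω) : Nat.card (Img G x) = Nat.card (Img G y) := by
  obtain ⟨g, rfl⟩ := hS.trans x y
  refine Nat.card_congr (Quotient.congr ((MulAut.conj g).toEquiv.subtypeEquiv fun t =>
    ⟨fun h => by simpa using h.conj g, fun h => by simpa [mul_assoc] using h.conj g⁻¹⟩) fun s t => ?_)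
  show (s : G) * t ∈ core G x ↔ (g * s * g⁻¹) * (g * t * g⁻¹) ∈ core G (g • x)
  rw [← core_smul_iff g]
  simp [mul_assoc]

theorem card_img_ne_zero (x : Ω) : Nat.card (Img G x) ≠ 0 := by
  have := hS.three_le_card_img x; omega

/-- The `p`-exponent of the number of involutions at a point. -/
theorem vp_card_invAt {x : Ω} {p : ℕ} {t : G} (ht : InvAt t x) :
    vp p (Nat.card {t : G // InvAt t x}) + vp p (Nat.card (core G x ⊓ centralizer {t} : Subgroup G)) =
      vp p (Nat.card (Img G x)) + vp p (Nat.card (core G x)) := by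
  haveI : Nonempty {t : G // InvAt t x} := ⟨⟨t, ht⟩⟩
  have h := congrArg (vp p) (hS.card_invAt ht)
  simp only [vp, Nat.factorization_mul Nat.card_pos.ne' Nat.card_pos.ne',
    Nat.factorization_mul (hS.card_img_ne_zero x) Nat.card_pos.ne', Finsupp.add_apply] at h
  exact h

theorem vp_swapper {x y : Ω} (hxy : x ≠ y) {p : ℕ} {v : G} (hv : orderOf v = 2) (h : v • x = y) :
    vp p (Nat.card {t : G // InvAt t x}) +
        vp p (Nat.card (pairStab G x y ⊓ centralizer {v} : Subgroup G)) =
      vp p (Nat.card (pairStab G x y)) := by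
  obtain ⟨t, ht⟩ := hS.exists_invAt x
  haveI : Nonempty {t : G // InvAt t x} := ⟨⟨t, ht⟩⟩
  have e := congrArg (vp p) (hS.card_pairStab_swapper hxy hv h)
  simp only [vp, Nat.factorization_mul Nat.card_pos.ne' Nat.card_pos.ne', Finsupp.add_apply] at e
  exact e

theorem vp_invAt {x y : Ω} (hxy : x ≠ y) {p : ℕ} {t : G} (ht : InvAt t x) :
    vp p (Nat.card {t : G // InvAt t x}) +
        vp p (Nat.card (pairStab G x y ⊓ centralizer {t} : Subgroup G)) =
      vp p (Nat.card (pairStab G x y)) := by
  haveI : Nonempty {t : G // InvAt t x} := ⟨⟨t, ht⟩⟩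
  have e := congrArg (vp p) (hS.card_pairStab_invAt hxy ht)
  simp only [vp, Nat.factorization_mul Nat.card_pos.ne' Nat.card_pos.ne', Finsupp.add_apply] at e
  exact e

end Setting

end CfsgLib.Bender
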