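import Cfsg.Agent.Lib.Bender.Colour

/-!
Owner: helper29. The setting of a strongly embedded subgroup, and its inheritance by subgroups with
two centres.
-/

set_option autoImplicit false
set_option linter.style.haveILetI false
set_option linter.unusedSectionVars false

namespace CfsgLib.Bender

open Subgroup MulAction
open CfsgLib.Signalizer (involution_sq involution_inv orderOf_eq_two_of involution_ne_one)

universe u

section Of

variable {G : Type u} [Group G] [Finite G]

theorem stab_base (M : Subgroup G) : stabilizer G ((1 : G) : G ⧸ M) = M :=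
  MulAction.stabilizer_quotient M

theorem invAt_base {M : Subgroup G} {t : G} :
    InvAt t ((1 : G) : G ⧸ M) ↔ orderOf t = 2 ∧ t ∈ M := by
  rw [InvAt, ← mem_stabilizer_iff, stab_base]

theorem smul_base {M : Subgroup G} (g : G) : g • ((1 : G) : G ⧸ M) = (g : G ⧸ M) := by
  rw [MulAction.Quotient.smul_coe, smul_eq_mul, mul_one]

/-- The setting on the cosets of a strongly embedded subgroup. -/
theorem setting_of_stronglyEmbedded {M : Subgroup G} (hM : Cfsg.IsStronglyEmbedded M)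
    (hfour : ∃ s ∈ M, ∃ t ∈ M, orderOf s = 2 ∧ orderOf t = 2 ∧ s ≠ t ∧ s * t = t * s)
    (hcomm : ∀ s t : G, InvAt s ((1 : G) : G ⧸ M) → InvAt t ((1 : G) : G ⧸ M) →
      s * t * s * t ∈ core G ((1 : G) : G ⧸ M)) : Setting G (G ⧸ M) where
  trans x y := MulAction.exists_smul_eq G x y
  exists_ne x := by
    by_contra h
    push Not at h
    refine hM.1 (Subgroup.index_eq_one.1 ?_)
    haveI : Subsingleton (G ⧸ M) := ⟨fun p q => (h p).trans (h q).symm⟩
    exact Nat.card_unique
  fix_unique := fun h₁ h₂ => CfsgLib.TwoGroups.SE.fixed_unique hM h₁.1 h₁.2 h₂.2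
  fix_exists := fun ht => CfsgLib.TwoGroups.SE.exists_fixed hM ht
  conj_fixing := fun hxy hs ht => by
    obtain ⟨d, h1, h2, h3⟩ := CfsgLib.TwoGroups.SE.exists_conj_fixing hM hxy hs.1 hs.2 ht.1 ht.2
    exact ⟨d, ⟨h1, h2⟩, h3⟩
  card_swap := fun {x y} hxy => by
    rw [CfsgLib.TwoGroups.SE.card_swapping hM x y hxy, ← CfsgLib.TwoGroups.SE.card_fixing x]
    rfl
  four x := by
    obtain ⟨g, rfl⟩ := QuotientGroup.mk_surjective x
    obtain ⟨s, hs, t, ht, hs2, ht2, hne, hc⟩ := hfour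
    refine ⟨g * s * g⁻¹, g * t * g⁻¹, ?_, ?_, fun h => hne (by simpa using h), ?_⟩
    · rw [← smul_base g]; exact (invAt_base.2 ⟨hs2, hs⟩).conj g
    · rw [← smul_base g]; exact (invAt_base.2 ⟨ht2, ht⟩).conj g
    · simp only [conj_mul, hc]
  comm_mod := fun {x s t} hs ht => by
    obtain ⟨g, rfl⟩ := QuotientGroup.mk_surjective x
    have hs' := hs.conj g⁻¹
    have ht' := ht.conj g⁻¹
    rw [← smul_base g, inv_smul_smul, inv_inv] at hs' ht'
    have h := core_smul_mem g (hcomm _ _ hs' ht')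
    rw [smul_base] at h
    simpa [mul_assoc] using h

end Of

/-- The induction hypothesis: the bound for smaller groups. -/
def SmallerOK (m : ℕ) : Prop :=
  ∀ (H : Type u) [Group H] [Finite H], Nat.card H < m → ∀ (M : Subgroup H),
    Cfsg.IsStronglyEmbedded M → Setting H (H ⧸ M) → SolvMod H ((1 : H) : H ⧸ M) →
    M.index = 2 ^ vp 2 (Nat.card H) + 1

variable {G : Type u} {Ω : Type*} [Group G] [Finite G] [MulAction G Ω] [Finite Ω] (hS : Setting G Ω)
include hS

/-- A proper subgroup with two centres and a four group. -/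
theorem Setting.two_centres (hsmall : SmallerOK.{u} (Nat.card G)) {a b : Ω} (hab : a ≠ b)
    (hsol : SolvMod G a) {H : Subgroup G} (hH : H ≠ ⊤) {s t w : G} (hsH : s ∈ H) (htH : t ∈ H)
    (hwH : w ∈ H) (hs : InvAt s a) (ht : InvAt t a) (hne : s ≠ t) (hc : s * t = t * s)
    (hw : InvAt w b) :
    (∃ k : ℕ, Nat.card {c : Ω // c ≠ a ∧ ∃ h ∈ H, h • a = c} = 2 ^ k) ∧
    (∃ h ∈ H, h • a = b) ∧
    ∀ c : Ω, c ≠ a → (∃ h ∈ H, h • a = c) →
      ∃ g ∈ H, (∃ k : ℕ, g ^ 2 ^ k = 1) ∧ g • a = a ∧ g • c = b := by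
  classical
  haveI : Fact (Nat.Prime 2) := ⟨Nat.prime_two⟩
  set M : Subgroup H := (stabilizer G a).subgroupOf H with hM
  have hmem : ∀ h : H, h ∈ M ↔ (h : G) • a = a := fun h => Iff.rfl
  have hwa : w • a ≠ a := hS.ne_of_inv hw hab
  have hSE : Cfsg.IsStronglyEmbedded M := by
    refine ⟨fun h => hwa ((hmem ⟨w, hwH⟩).1 (h ▸ mem_top _)), ?_, fun g hg => ?_⟩
    · refine even_iff_two_dvd.2 ?_
      have := M.orderOf_dvd_natCard (x := ⟨s, hsH⟩) ((hmem _).2 hs.2)
      rwa [Subgroup.orderOf_mk, hs.1] at this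
    · have hga : a ≠ (g : G) • a := fun h => hg ((hmem g).2 h.symm)
      refine (hS.odd_pairStab hga).of_dvd_nat ?_
      rw [Nat.card_congr (Subgroup.equivMapOfInjective _ _ H.subtype_injective).toEquiv]
      refine card_dvd_of_le ?_
      rintro _ ⟨x, hx, rfl⟩
      obtain ⟨y, hy, hxy⟩ := hx.2
      refine ⟨(hmem x).1 hx.1, ?_⟩
      show (x : G) • (g : G) • a = (g : G) • a
      rw [← hxy]
      simp [mul_smul, (hmem y).1 hy]
  let ι : H ⧸ M → Ω := fun x => Quotient.liftOn' x (fun h => (h : G) • a) fun h h' hh => by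
    rw [QuotientGroup.leftRel_apply] at hh
    have := (hmem _).1 hh
    rw [Subgroup.coe_mul, Subgroup.coe_inv, mul_smul] at this
    exact (inv_smul_eq_iff.1 this).symm
  have hι : ∀ h : H, ι (h : H ⧸ M) = (h : G) • a := fun h => rfl
  have hιinj : Function.Injective ι := by
    intro x y hxy
    obtain ⟨h, rfl⟩ := QuotientGroup.mk_surjective x
    obtain ⟨h', rfl⟩ := QuotientGroup.mk_surjective y
    rw [hι, hι] at hxy
    refine QuotientGroup.eq.2 ((hmem _).2 ?_)
    rw [Subgroup.coe_mul, Subgroup.coe_inv, mul_smul, ← hxy, inv_smul_smul]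
  have hιsmul : ∀ (h : H) (x : H ⧸ M), ι (h • x) = (h : G) • ι x := fun h x => by
    obtain ⟨h', rfl⟩ := QuotientGroup.mk_surjective x
    rw [MulAction.Quotient.smul_coe, smul_eq_mul, hι, hι, Subgroup.coe_mul, mul_smul]
  have hinv : ∀ (h : H) (x : H ⧸ M), InvAt h x ↔ InvAt (h : G) (ι x) := fun h x => by
    rw [InvAt, InvAt, Subgroup.orderOf_coe, ← hιsmul]
    exact and_congr_right fun _ => ⟨congrArg ι, fun e => hιinj e⟩
  set o : H ⧸ M := ((1 : H) : H ⧸ M) with ho
  have hιo : ι o = a := by rw [ho, hι, Subgroup.coe_one, one_smul]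
  have hcore : ∀ x : H, (x : G) ∈ core G a → x ∈ core H o := by
    intro x hx
    refine (le_core (N := (core G a).subgroupOf H) ?_ ?_ ?_) (mem_subgroupOf.2 hx)
    · intro y hy
      exact hιinj (by rw [hιsmul, hιo]; exact core_smul a (mem_subgroupOf.1 hy))
    · intro g hg
      have hga : (g : G) • a = a := by rw [← hιo, ← hιsmul]; exact congrArg ι hg
      rw [mem_normalizer_iff]
      intro y
      simp only [mem_subgroupOf, Subgroup.coe_mul, Subgroup.coe_inv]
      exact mem_normalizer_iff.1 (le_normalizer_core (G := G) a hga) _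
    · refine (core_odd (G := G) a).of_dvd_nat ?_
      rw [Nat.card_congr (Subgroup.equivMapOfInjective _ _ H.subtype_injective).toEquiv]
      exact card_dvd_of_le (by rintro _ ⟨y, hy, rfl⟩; exact hy)
  have hcomm : ∀ x y : H, InvAt x o → InvAt y o → x * y * x * y ∈ core H o := fun x y hx hy => by
    rw [hinv, hιo] at hx hy
    exact hcore _ (hS.comm_mod hx hy)
  have hfour : ∃ x ∈ M, ∃ y ∈ M, orderOf x = 2 ∧ orderOf y = 2 ∧ x ≠ y ∧ x * y = y * x :=
    ⟨⟨s, hsH⟩, (hmem _).2 hs.2, ⟨t, htH⟩, (hmem _).2 ht.2, by rw [Subgroup.orderOf_mk]; exact hs.1,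
      by rw [Subgroup.orderOf_mk]; exact ht.1, fun h => hne (congrArg Subtype.val h), Subtype.ext hc⟩
  have hSH : Setting H (H ⧸ M) := setting_of_stronglyEmbedded hSE hfour hcomm
  have hsolH : SolvMod H o := by
    let f : stabilizer H o →* stabilizer G a := (H.subtype.comp (stabilizer H o).subtype).codRestrict _
      fun x => by
        show ((x : H) : G) • a = a
        rw [← hιo, ← hιsmul]
        exact congrArg ι x.2
    haveI : Group.IsSolvable (imgHom G a).range := hsol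
    have hle : ((imgHom G a).comp f).range ≤ (imgHom G a).range := by
      rintro _ ⟨x, rfl⟩; exact ⟨f x, rfl⟩
    haveI : Group.IsSolvable ((imgHom G a).comp f).range := CfsgLib.Core.isSolvable_of_le hsol hle
    set ψ := (imgHom G a).comp f
    have hker : ψ.rangeRestrict.ker ≤ (imgHom H o).rangeRestrict.ker := by
      intro x hx
      rw [MonoidHom.ker_rangeRestrict, MonoidHom.mem_ker] at hx ⊢
      refine Equiv.ext fun q => ?_
      induction q using Quotient.inductionOn with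
      | _ r =>
        refine Quotient.sound ?_
        refine hcore _ ?_
        have hr : InvAt ((r : H) : G) a := by rw [← hιo, ← hinv]; exact r.2
        exact Quotient.exact (Equiv.ext_iff.1 hx (img hr))
    let g : ψ.range →* (imgHom H o).range :=
      ψ.rangeRestrict.liftOfSurjective ψ.rangeRestrict_surjective ⟨(imgHom H o).rangeRestrict, hker⟩
    refine Group.isSolvable_of_surjective (f := g) fun y => ?_
    obtain ⟨x, rfl⟩ := (imgHom H o).rangeRestrict_surjective y
    exact ⟨ψ.rangeRestrict x, MonoidHom.liftOfRightInverse_comp_apply _ _ _ _ _⟩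
  have hlt : Nat.card H < Nat.card G := CfsgLib.Core.card_subgroup_lt H hH
  have hidx := hsmall H hlt M hSE hSH hsolH
  let e : {x : H ⧸ M // x ≠ o} ≃ {c : Ω // c ≠ a ∧ ∃ h ∈ H, h • a = c} :=
    Equiv.ofBijective (fun x => ⟨ι x.1, fun h => x.2 (hιinj (h.trans hιo.symm)), by
      obtain ⟨h, hh⟩ := QuotientGroup.mk_surjective x.1
      exact ⟨h, h.2, by rw [← hh, hι]⟩⟩)
      ⟨fun x y h => Subtype.ext (hιinj (congrArg Subtype.val h)), fun c => by
        obtain ⟨h, hh, he⟩ := c.2.2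
        exact ⟨⟨((⟨h, hh⟩ : H) : H ⧸ M), fun h' => c.2.1
          (he.symm.trans ((hι ⟨h, hh⟩).symm.trans ((congrArg ι h').trans hιo)))⟩,
          Subtype.ext he⟩⟩
  have hcardY : Nat.card {x : H ⧸ M // x ≠ o} = 2 ^ vp 2 (Nat.card H) := by
    have := Fintype.ofFinite (H ⧸ M)
    rw [Nat.card_eq_fintype_card, Fintype.card_subtype_compl, Fintype.card_subtype_eq,
      ← Nat.card_eq_fintype_card, ← Subgroup.index_eq_card, hidx, Nat.add_sub_cancel]
  -- the centre of `w`
  obtain ⟨x, hx⟩ := hSH.fix_exists (t := ⟨w, hwH⟩) (by rw [Subgroup.orderOf_mk]; exact hw.1)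
  have hxb : ι x = b := hS.fix_unique ((hinv ⟨w, hwH⟩ x).1 ⟨by rw [Subgroup.orderOf_mk]; exact hw.1, hx⟩) hw
  obtain ⟨h₀, hh₀⟩ := QuotientGroup.mk_surjective x
  refine ⟨⟨_, (Nat.card_congr e).symm.trans hcardY⟩, ⟨h₀, h₀.2, by rw [← hxb, ← hh₀, hι]⟩, ?_⟩
  intro c hca hcH
  obtain ⟨T, hT⟩ := exists_isSyl 2 M
  have hxo : x ≠ o := fun h => hab (by rw [← hxb, h, hιo])
  have hTo : ∀ g ∈ T, g • o = o := fun g hg => hιinj (by rw [hιsmul, hιo]; exact (hmem g).1 (hT.le hg))
  let φ : T → {x : H ⧸ M // x ≠ o} := fun g => ⟨(g : H) • x, fun h =>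
    hxo (smul_left_cancel (g : H) (h.trans (hTo _ g.2).symm))⟩
  have hφinj : Function.Injective φ := by
    intro g g' h
    have h' : (g : H) • x = (g' : H) • x := congrArg Subtype.val h
    have hgT : (g' : H)⁻¹ * g ∈ T := mul_mem (inv_mem g'.2) g.2
    by_contra hne'
    obtain ⟨j, hj⟩ := hT.isPGroup ⟨_, hgT⟩
    have hd : ((g' : H)⁻¹ * g) ∈ pairStab H o x :=
      ⟨hTo _ hgT, show ((g' : H)⁻¹ * g) • x = x by rw [mul_smul, h', inv_smul_smul]⟩
    have hodd := (hSH.odd_pairStab hxo.symm).of_dvd_nat (orderOf_dvd_natCard _ hd)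
    have hdvd : orderOf ((g' : H)⁻¹ * g) ∣ 2 ^ j :=
      orderOf_dvd_of_pow_eq_one (by simpa [Subtype.ext_iff] using hj)
    have h1 := Nat.eq_one_of_dvd_coprimes (Nat.Coprime.pow_left j (Nat.coprime_two_left.2 hodd)) hdvd dvd_rfl
    exact hne' (Subtype.ext (inv_mul_eq_one.1 (orderOf_eq_one_iff.1 h1)).symm)
  have hcardT : Nat.card T = 2 ^ vp 2 (Nat.card H) := by
    rw [hT.2]
    congr 1
    have := congrArg (vp 2) M.card_mul_index
    have hodd : vp 2 M.index = 0 := by
      refine Nat.factorization_eq_zero_of_not_dvd fun h2 => ?_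
      rw [hidx] at h2
      have hpos : 0 < vp 2 (Nat.card H) := Nat.prime_two.factorization_pos_of_dvd Nat.card_pos.ne'
        (hSE.2.1.two_dvd.trans M.card_subgroup_dvd_card)
      have h3 : 2 ∣ 2 ^ vp 2 (Nat.card H) := dvd_pow_self 2 hpos.ne'
      omega
    simp only [vp, Nat.factorization_mul Nat.card_pos.ne' (Subgroup.index_ne_zero_of_finite),
      Finsupp.add_apply] at this hodd ⊢
    omega
  have hφ := hφinj.bijective_of_nat_card_le (by rw [hcardT, hcardY])
  obtain ⟨g, hg⟩ := hφ.2 (e.symm ⟨c, hca, hcH⟩)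
  have hgc : ((g : H) : G) • b = c := by
    have h1 : ι ((e.symm ⟨c, hca, hcH⟩ : {x : H ⧸ M // x ≠ o}) : H ⧸ M) = c :=
      congrArg Subtype.val (e.apply_symm_apply ⟨c, hca, hcH⟩)
    rw [← hg, hιsmul, hxb] at h1
    exact h1
  obtain ⟨j, hj⟩ := hT.isPGroup g
  refine ⟨((g : H) : G)⁻¹, inv_mem (g : H).2, ⟨j, ?_⟩, ?_, inv_smul_eq_iff.2 hgc.symm⟩
  · rw [inv_pow, inv_eq_one]
    simpa [Subtype.ext_iff] using hj
  · exact inv_smul_eq_iff.2 ((hmem _).1 (hT.le g.2)).symm

end CfsgLib.Bender
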