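import Cfsg.Agent.Lib.Bender.Central
import Cfsg.Agent.Lib.Bender.Complement
import Cfsg.Agent.Lib.Lie.RankOneClass.Induction

/-!
Owner: helper29. A normal 2-subgroup of the stabiliser regular on the other points.
-/

set_option autoImplicit false
set_option linter.style.haveILetI false
set_option linter.unusedSectionVars false

namespace CfsgLib.Bender

open Subgroup MulAction
open CfsgLib.Signalizer (involution_sq involution_inv orderOf_eq_two_of involution_ne_one)

universe u

variable {G : Type u} {Ω : Type*} [Group G] [Finite G] [MulAction G Ω] [Finite Ω] (hS : Setting G Ω)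
include hS

namespace Setting

theorem exists_regular (hsmall : SmallerOK.{u} (Nat.card G))
    (hfaith : ∀ g : G, (∀ x : Ω, g • x = x) → g = 1) (a : Ω) (hsol : SolvMod G a) :
    ∃ U : Subgroup G, U ≤ stabilizer G a ∧ stabilizer G a ≤ normalizer (U : Set G) ∧
      (∀ x y : Ω, x ≠ a → y ≠ a → ∃ u ∈ U, u • x = y) ∧
      (∀ x : Ω, x ≠ a → ∀ u ∈ U, u • x = x → u = 1) ∧
      Nat.card U = 2 ^ vp 2 (Nat.card G) ∧ Nat.card Ω = 2 ^ vp 2 (Nat.card G) + 1 := by
  classical
  haveI : Fact (Nat.Prime 2) := ⟨Nat.prime_two⟩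
  obtain ⟨b, hba⟩ := hS.exists_ne a
  set D := pairStab G a b with hD
  set Γ := cmod G a with hΓ
  have hcomm : ∀ t : G, InvAt t a → ∀ w ∈ core G a, w * t = t * w := fun t ht w hw =>
    hS.commute_core hsmall hfaith hsol ht hw
  have hcent : ∀ c ∈ Γ, ∀ t : G, InvAt t a → c * t = t * c := by
    intro c hc t ht
    obtain ⟨hca, h⟩ := mem_cmod.1 hc
    obtain ⟨w, hw, he⟩ := exists_core_conj (ht.conj' hca) ht (h t ht)
    rw [hcomm _ (ht.conj' hca) w hw, mul_inv_cancel_right] at he
    exact mul_inv_eq_iff_eq_mul.1 he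
  set X := D.subgroupOf Γ with hX
  have hXD : Nat.card X = Nat.card (D ⊓ Γ : Subgroup G) := by
    rw [Nat.card_congr (Subgroup.equivMapOfInjective _ _ Γ.subtype_injective).toEquiv, hX,
      Subgroup.subgroupOf_map_subtype]
  have hXodd : Odd (Nat.card X) := by
    rw [hXD]; exact odd_of_le inf_le_left (hS.odd_pairStab hba.symm)
  -- the index is the number of other points
  have hidx : X.index = Nat.card {c : Ω // c ≠ a} := by
    have e : stabilizer Γ b = X := by
      ext c
      exact ⟨fun h => mem_subgroupOf.2 ⟨(mem_cmod.1 c.2).1, h⟩, fun h => (mem_subgroupOf.1 h).2⟩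
    have ho : orbit Γ b = {c : Ω | c ≠ a} := by
      ext c
      constructor
      · rintro ⟨k, rfl⟩ h
        exact hba (smul_left_cancel (k : G) (h.trans (mem_cmod.1 k.2).1.symm))
      · intro hc
        obtain ⟨k, hk, he⟩ := hS.exists_cmod_smul hsol hba hc
        exact ⟨⟨k, hk⟩, he⟩
    rw [← e, Subgroup.index_eq_card, ← Nat.card_congr (orbitEquivQuotientStabilizer Γ b), ho]
    rfl
  have hcop : (Nat.card X).Coprime X.index := by
    refine Nat.coprime_of_dvd fun q hq hqX hqi => ?_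
    haveI := Fact.mk hq
    obtain ⟨P, hP⟩ := exists_isSyl q D
    have hPa := hS.vp_stab_eq hsmall hfaith hba.symm hsol (hXD ▸ hqX) hP
    have h1 : IsSyl q (P ⊓ Γ) Γ := hPa.inf_of_le_normalizer (cmod_le a) (le_normalizer_cmod a)
    have h2 := vp_card_mono (p := q) (inf_le_inf_right Γ hP.le)
    have h3 := congrArg (vp q) X.card_mul_index
    have h4 := hq.factorization_pos_of_dvd X.index_ne_zero_of_finite hqi
    simp only [vp, Nat.factorization_mul Nat.card_pos.ne' X.index_ne_zero_of_finite, Finsupp.add_apply,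
      hXD] at h2 h3
    have h5 := h1.vp_eq
    simp only [vp] at h5
    omega
  have hXsol : Group.IsSolvable X := Cfsg.Agent.S0205.result hXodd
  have htwo : ∀ g : G, g • a = a → ∀ k : ℕ, g ^ 2 ^ k = 1 → g ∈ Γ := fun g hg k hk =>
    hS.mem_cmod_of_two_power hsol hg hk
  obtain ⟨U₀, hU₀n, hU₀X, hU₀c⟩ := exists_normal_complement (Nat.card X) Γ X rfl hXsol hcop hXodd (by
    intro N hN x hx y hy g hg he
    by_cases hy1 : y = 1
    · refine ⟨1, one_mem _, ?_⟩
      rw [one_mul, inv_one, mul_one]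
      have : g * x * g⁻¹ = 1 := he.trans hy1
      rw [conj_eq_one_iff] at this
      rw [this, hy1]
    set H := centralizer ({(y : G)} : Set G) with hH
    have hyD : (y : G) ∈ D := mem_subgroupOf.1 hy.1
    have hxD : (x : G) ∈ D := mem_subgroupOf.1 hx.1
    have hga : (g : G) • a = a := (mem_cmod.1 g.2).1
    set c := (g : G) • b with hc
    have hca : c ≠ a := fun h => hba (smul_left_cancel (g : G) (h.trans hga.symm))
    have hyc : (y : G) ∈ cmod G c := by
      have := cmod_smul_mem (g : G) ((hS.cmod_symm hba.symm hxD).1 x.2)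
      rwa [← hc, show (g : G) * x * (g : G)⁻¹ = y from congrArg Subtype.val he] at this
    have hyb : (y : G) ∈ cmod G b := (hS.cmod_symm hba.symm hyD).1 y.2
    -- elements of the kernel at a point centralise the involutions there
    have hcentx : ∀ z : Ω, (y : G) ∈ cmod G z → ∀ t : G, InvAt t z → t ∈ H := by
      intro z hz t ht
      obtain ⟨k, rfl⟩ := hS.trans a z
      have hy' : k⁻¹ * (y : G) * k ∈ Γ := by
        have := cmod_smul_mem k⁻¹ hz
        rwa [inv_smul_smul, inv_inv] at this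
      have ht' : InvAt (k⁻¹ * t * k) a := by
        have := ht.conj k⁻¹
        rwa [inv_smul_smul, inv_inv] at this
      have h := hcent _ hy' _ ht'
      rw [hH, mem_centralizer_singleton_iff]
      calc t * (y : G) = k * ((k⁻¹ * t * k) * (k⁻¹ * y * k)) * k⁻¹ := by group
        _ = (y : G) * t := by rw [← h]; group
    have hHtop : H ≠ ⊤ := by
      intro h
      refine hy1 (Subtype.ext (hfaith (y : G) fun z => ?_))
      obtain ⟨k, rfl⟩ := hS.trans a z
      have hk : k * (y : G) = (y : G) * k := mem_centralizer_singleton_iff.1 (show k ∈ H from h ▸ mem_top k)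
      rw [← mul_smul, ← hk, mul_smul, show (y : G) • a = a from hyD.1]
    obtain ⟨s, t, hs, ht, hne, hst⟩ := hS.four a
    obtain ⟨w, hw⟩ := hS.exists_invAt b
    obtain ⟨w', hw'⟩ := hS.exists_invAt c
    obtain ⟨-, hcH, -⟩ := hS.two_centres hsmall hca.symm hsol hHtop (hcentx a y.2 s hs) (hcentx a y.2 t ht)
      (hcentx c hyc w' hw') hs ht hne hst hw'
    obtain ⟨-, -, hmove⟩ := hS.two_centres hsmall hba.symm hsol hHtop (hcentx a y.2 s hs) (hcentx a y.2 t ht)
      (hcentx b hyb w hw) hs ht hne hst hw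
    obtain ⟨r, hrH, ⟨k, hk⟩, hra, hrc⟩ := hmove c hca hcH
    have hrΓ : r ∈ Γ := htwo r hra k hk
    refine ⟨(⟨r, hrΓ⟩ : Γ) * g, ⟨mem_subgroupOf.2 ⟨?_, ?_⟩, mul_mem (hN _ k (Subtype.ext hk)) hg⟩, ?_⟩
    · show (r * (g : G)) • a = a
      rw [mul_smul, hga, hra]
    · show (r * (g : G)) • b = b
      rw [mul_smul, ← hc, hrc]
    · refine Subtype.ext ?_
      show r * (g : G) * x * (r * (g : G))⁻¹ = y
      calc r * (g : G) * x * (r * (g : G))⁻¹ = r * ((g : G) * x * (g : G)⁻¹) * r⁻¹ := by group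
        _ = r * y * r⁻¹ := by rw [show (g : G) * x * (g : G)⁻¹ = y from congrArg Subtype.val he]
        _ = y := by rw [mem_centralizer_singleton_iff.1 hrH, mul_inv_cancel_right])
  set U := U₀.map Γ.subtype with hU
  have hUΓ : U ≤ Γ := map_subtype_le _
  have hUa : U ≤ stabilizer G a := hUΓ.trans (cmod_le a)
  have hUc : Nat.card U = Nat.card {c : Ω // c ≠ a} := by
    rw [hU, ← Nat.card_congr (U₀.equivMapOfInjective _ Γ.subtype_injective).toEquiv, hU₀c, hidx]
  have hUn : stabilizer G a ≤ normalizer (U : Set G) := by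
    haveI := hU₀n
    have key : ∀ k : Γ, k ∈ U₀ ↔ (orderOf k).Coprime (Nat.card X) := by
      intro k
      constructor
      · intro hk
        refine Nat.Coprime.coprime_dvd_left ?_ hcop.symm
        rw [← hU₀c]
        exact U₀.orderOf_dvd_natCard hk
      · intro hk
        have h1 : orderOf (QuotientGroup.mk' U₀ k) ∣ orderOf k := orderOf_map_dvd _ _
        have h2 : orderOf (QuotientGroup.mk' U₀ k) ∣ U₀.index := by
          rw [Subgroup.index_eq_card]; exact orderOf_dvd_natCard _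
        have h3 : U₀.index = Nat.card X := by
          have e1 := U₀.card_mul_index
          have e2 := X.card_mul_index
          rw [hU₀c] at e1
          rw [mul_comm (Nat.card X)] at e2
          exact Nat.eq_of_mul_eq_mul_left (Nat.pos_of_ne_zero X.index_ne_zero_of_finite) (e1.trans e2.symm)
        rw [h3] at h2
        exact (QuotientGroup.eq_one_iff k).1 (orderOf_eq_one_iff.1 (Nat.eq_one_of_dvd_coprimes hk h1 h2))
    have key2 : ∀ g : G, g • a = a → ∀ u ∈ U, g * u * g⁻¹ ∈ U := by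
      rintro g hg _ ⟨k, hk, rfl⟩
      refine ⟨⟨_, cmod_conj_mem hg k.2⟩, (key _).2 ?_, rfl⟩
      rw [← Subgroup.orderOf_coe]
      show (orderOf (g * (k : G) * g⁻¹)).Coprime _
      rw [CfsgLib.Signalizer.orderOf_conj, Subgroup.orderOf_coe]
      exact (key k).1 hk
    intro g hg
    rw [mem_normalizer_iff]
    refine fun u => ⟨key2 g hg u, fun h => ?_⟩
    have := key2 g⁻¹ (inv_mem hg) _ h
    simpa [mul_assoc] using this
  have hfree_b : ∀ u ∈ U, u • b = b → u = 1 := by
    rintro _ ⟨k, hk, rfl⟩ hkb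
    have : k ∈ U₀ ⊓ X := ⟨hk, mem_subgroupOf.2 ⟨(mem_cmod.1 k.2).1, hkb⟩⟩
    rw [hU₀X, mem_bot] at this
    rw [this]; rfl
  let φ : U → {c : Ω // c ≠ a} := fun u => ⟨(u : G) • b, fun h =>
    hba (smul_left_cancel (u : G) (h.trans (show (u : G) • a = a from hUa u.2).symm))⟩
  have hφ : Function.Bijective φ := by
    refine Function.Injective.bijective_of_nat_card_le (fun u u' h => ?_) hUc.ge
    have h' : (u : G) • b = (u' : G) • b := congrArg Subtype.val h
    exact Subtype.ext (inv_mul_eq_one.1 (hfree_b _ (mul_mem (inv_mem u'.2) u.2)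
      (by rw [mul_smul, h', inv_smul_smul]))).symm
  have hreach : ∀ x : Ω, x ≠ a → ∃ u ∈ U, u • b = x := fun x hx =>
    let ⟨u, hu⟩ := hφ.2 ⟨x, hx⟩
    ⟨u, u.2, congrArg Subtype.val hu⟩
  have htr : ∀ x y : Ω, x ≠ a → y ≠ a → ∃ u ∈ U, u • x = y := by
    intro x y hx hy
    obtain ⟨u, hu, rfl⟩ := hreach x hx
    obtain ⟨u', hu', rfl⟩ := hreach y hy
    exact ⟨u' * u⁻¹, mul_mem hu' (inv_mem hu), by rw [mul_smul, inv_smul_smul]⟩
  have hfree : ∀ x : Ω, x ≠ a → ∀ u ∈ U, u • x = x → u = 1 := by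
    intro x hx u hu hux
    obtain ⟨r, hr, rfl⟩ := hreach x hx
    have := hfree_b (r⁻¹ * u * r) (mul_mem (mul_mem (inv_mem hr) hu) hr)
      (by rw [mul_smul, mul_smul, hux, inv_smul_smul])
    have e : u = r * (r⁻¹ * u * r) * r⁻¹ := by group
    rw [e, this, mul_one, mul_inv_cancel]
  -- the rank one setup
  obtain ⟨v, hv, hva⟩ := hS.exists_swapper hba.symm
  have hUD : U ⊔ D = stabilizer G a := by
    refine le_antisymm (sup_le hUa inf_le_left) fun g hg => ?_
    have hgb : g • b ≠ a := fun h => hba (smul_left_cancel g (h.trans (show g • a = a from hg).symm))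
    obtain ⟨u, hu, he⟩ := hreach _ hgb
    rw [show g = u * (u⁻¹ * g) by group]
    exact mul_mem_sup hu (Subgroup.mem_inf.2 ⟨mul_mem (inv_mem (hUa hu)) hg,
      show (u⁻¹ * g) • b = b by rw [mul_smul, ← he, inv_smul_smul]⟩)
  have hU2 : ∀ g : G, g • a = a → orderOf g = 2 → g ∈ U := by
    intro g hg hg2
    have hgΓ : g ∈ Γ := htwo g hg 1 (by rw [pow_one, ← hg2, pow_orderOf_eq_one])
    haveI := hU₀n
    refine ⟨⟨g, hgΓ⟩, ?_, rfl⟩
    have h1 : orderOf (QuotientGroup.mk' U₀ (⟨g, hgΓ⟩ : Γ)) ∣ 2 := by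
      refine (orderOf_map_dvd _ _).trans ?_
      rw [Subgroup.orderOf_mk, hg2]
    have h3 : U₀.index = Nat.card X := by
      have e1 := U₀.card_mul_index
      have e2 := X.card_mul_index
      rw [hU₀c] at e1
      rw [mul_comm (Nat.card X)] at e2
      exact Nat.eq_of_mul_eq_mul_left (Nat.pos_of_ne_zero X.index_ne_zero_of_finite) (e1.trans e2.symm)
    have h4 : orderOf (QuotientGroup.mk' U₀ (⟨g, hgΓ⟩ : Γ)) ∣ Nat.card X := by
      rw [← h3, Subgroup.index_eq_card]; exact orderOf_dvd_natCard _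
    exact (QuotientGroup.eq_one_iff _).1
      (orderOf_eq_one_iff.1 (Nat.eq_one_of_dvd_coprimes (Nat.coprime_two_left.2 hXodd) h1 h4))
  obtain ⟨s₀, hs₀⟩ := hS.exists_invAt a
  have hDeq : stabilizer G a ⊓ stabilizer G (v • a) = D := by rw [hva]
  have hR : Cfsg.IsRankOneSetup G Ω a v U :=
    { two_transitive := is_two_pretransitive_iff.2 fun hb hc => hS.exists_pair_smul hb hc
      mul_self := involution_sq hv
      ne_one := involution_ne_one hv
      not_mem := fun h => hba (by rw [← hva]; exact h)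
      le := hUa
      conj_mem := fun g hg u hu => (mem_normalizer_iff.1 (hUn hg) u).1 hu
      inf_eq_bot := (Subgroup.eq_bot_iff_forall _).2 fun u hu => hfree_b u hu.1 (by rw [← hva]; exact hu.2)
      sup_eq := by rw [hDeq]; exact hUD
      even_card := even_iff_two_dvd.2 (hs₀.1 ▸ U.orderOf_dvd_natCard (hU2 _ hs₀.2 hs₀.1))
      odd_card := by rw [hDeq]; exact hS.odd_pairStab hba.symm }
  haveI : FaithfulSMul G Ω := ⟨fun {g g'} h => by
    have := hfaith (g'⁻¹ * g) fun x => by rw [mul_smul, h x, inv_smul_smul]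
    exact (inv_mul_eq_one.1 this).symm⟩
  obtain ⟨s, t, hs, ht, hne, hst⟩ := hS.four a
  have hshape := CfsgLib.Lie.RankOneClass.shape_all (Nat.card G) G Ω a v U rfl hR
    ⟨s, t, involution_ne_one hs.1, involution_ne_one ht.1, hne, involution_sq hs.1, involution_sq ht.1, hst⟩
  -- the number of involutions at a point is one less than a power of two
  obtain ⟨E, hEa, hE2, hEc⟩ := hS.exists_elementary a
  have hqq : CfsgLib.Lie.RankOneClass.qq G a = Nat.card E := by
    have hset : ((E : Set G) \ {1}) = Cfsg.involutionsIn (stabilizer G a : Set G) := by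
      ext g
      constructor
      · rintro ⟨hg, hg1⟩
        exact ⟨hEa hg, hg1, hE2 g hg⟩
      · rintro ⟨hga, hg1, hgg⟩
        have hg : InvAt g a := ⟨orderOf_eq_two_of hg1 hgg, hga⟩
        obtain ⟨e, he, hge⟩ := hEc g hg
        have he1 : e ≠ 1 := fun h => by
          rw [h, mul_one] at hge; exact not_mem_of_odd (core_odd a) hg.1 hge
        obtain ⟨w, hw, hwe⟩ := exists_core_conj hg ⟨orderOf_eq_two_of he1 (hE2 e he), hEa he⟩ hge
        rw [hcomm g hg w hw, mul_inv_cancel_right] at hwe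
        exact ⟨hwe ▸ he, hg1⟩
    rw [CfsgLib.Lie.RankOneClass.qq, ← hset, Nat.card_coe_set_eq,
      Set.ncard_sdiff_singleton_add_one E.one_mem (Set.toFinite _), ← Nat.card_coe_set_eq]
    rfl
  obtain ⟨j, hj⟩ := IsPGroup.exists_card_eq (p := 2) (G := E)
    fun e => ⟨1, Subtype.ext (by simpa [pow_two] using hE2 e e.2)⟩
  obtain ⟨m, hm⟩ : ∃ m, Nat.card U = 2 ^ m := by
    rcases hshape with h | ⟨-, h | ⟨h, -⟩⟩
    · exact ⟨j, by rw [h, hqq, hj]⟩
    · exact ⟨j * 2, by rw [h, hqq, hj, pow_mul]⟩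
    · exact ⟨j * 3, by rw [h, hqq, hj, pow_mul]⟩
  have hΩ : Nat.card Ω = Nat.card U + 1 := by
    have := Fintype.ofFinite Ω
    rw [hUc, Nat.card_eq_fintype_card, Nat.card_eq_fintype_card, Fintype.card_subtype_compl,
      Fintype.card_subtype_eq]
    have : 0 < Fintype.card Ω := Fintype.card_pos_iff.2 ⟨a⟩
    omega
  have hm0 : m ≠ 0 := by
    intro h
    have := hR.even_card
    rw [hm, h, pow_zero] at this
    exact Nat.not_even_one this
  have hmv : m = vp 2 (Nat.card G) := by
    haveI : IsPretransitive G Ω := ⟨fun x y => hS.trans x y⟩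
    have h1 := (stabilizer G a).card_mul_index
    rw [index_stabilizer_of_transitive, hΩ] at h1
    have h2 : Nat.card (stabilizer G a) = Nat.card U * Nat.card D := by
      rw [← hUD, sup_comm, CfsgLib.Core.card_sup_of_disjoint D U (inf_le_left.trans hUn)
        ((Subgroup.eq_bot_iff_forall _).2 fun u hu => hfree_b u hu.2 hu.1.2), mul_comm]
    rw [h2, hm] at h1
    have hodd1 : ¬ 2 ∣ 2 ^ m + 1 := fun h => by
      have : 2 ∣ 2 ^ m := dvd_pow_self 2 hm0
      omega
    have hD2 : ¬ 2 ∣ Nat.card D := fun h =>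
      Nat.not_even_iff_odd.2 (hS.odd_pairStab hba.symm) (even_iff_two_dvd.2 h)
    rw [← h1]
    simp only [vp, Nat.factorization_mul (mul_ne_zero (pow_ne_zero _ two_ne_zero) Nat.card_pos.ne')
        (Nat.succ_ne_zero _), Nat.factorization_mul (pow_ne_zero _ (two_ne_zero (α := ℕ))) Nat.card_pos.ne',
      Finsupp.add_apply, Nat.Prime.factorization_pow Nat.prime_two, Finsupp.single_eq_same,
      Nat.factorization_eq_zero_of_not_dvd hodd1, Nat.factorization_eq_zero_of_not_dvd hD2, add_zero]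
  exact ⟨U, hUa, hUn, htr, hfree, by rw [hm, hmv], by rw [hΩ, hm, hmv]⟩

end Setting

end CfsgLib.Bender
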