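import Cfsg.Agent.Lib.Bender.GroupLemmas
import Cfsg.Agent.Lib.TwoGroups.StrongEmbedding

/-!
Owner: helper29. The setting: every involution fixes one point, two-point stabilisers are transitive
on the involutions at a point, and the involutions at a point commute modulo the odd core of its
stabiliser.
-/

set_option autoImplicit false
set_option linter.style.haveILetI false
set_option linter.unusedSectionVars false

namespace CfsgLib.Bender

open Subgroup MulAction
open CfsgLib.Signalizer (involution_sq involution_inv orderOf_eq_two_of involution_ne_one)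

variable {G Ω : Type*} [Group G] [Finite G] [MulAction G Ω] [Finite Ω]

/-- `t` is an involution fixing `x`. -/
def InvAt (t : G) (x : Ω) : Prop := orderOf t = 2 ∧ t • x = x

variable (G) in
/-- The stabiliser of two points. -/
abbrev pairStab (x y : Ω) : Subgroup G := stabilizer G x ⊓ stabilizer G y

variable (G) in
/-- The odd core of a stabiliser, as a subgroup of `G`. -/
def core (x : Ω) : Subgroup G := (Cfsg.oddCore ↥(stabilizer G x)).map (stabilizer G x).subtype

/-- The elements of the stabiliser fixing every involution at `x` modulo the odd core. -/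
def centMod (G : Type*) {Ω : Type*} [Group G] [Finite G] [MulAction G Ω] (x : Ω) : Set G :=
  {g | g • x = x ∧ ∀ t : G, InvAt t x → g * t * g⁻¹ * t ∈ core G x}

/-- The setting of the proof. -/
structure Setting (G Ω : Type*) [Group G] [Finite G] [MulAction G Ω] : Prop where
  trans : ∀ x y : Ω, ∃ g : G, g • x = y
  exists_ne : ∀ x : Ω, ∃ y : Ω, y ≠ x
  fix_unique : ∀ {t : G} {x y : Ω}, InvAt t x → InvAt t y → x = y
  fix_exists : ∀ {t : G}, orderOf t = 2 → ∃ x : Ω, t • x = x
  conj_fixing : ∀ {x y : Ω} {s t : G}, x ≠ y → InvAt s x → InvAt t x →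
    ∃ d ∈ pairStab G x y, d * s * d⁻¹ = t
  card_swap : ∀ {x y : Ω}, x ≠ y →
    Nat.card {i : G // orderOf i = 2 ∧ i • x = y} = Nat.card {t : G // InvAt t x}
  four : ∀ x : Ω, ∃ s t : G, InvAt s x ∧ InvAt t x ∧ s ≠ t ∧ s * t = t * s
  comm_mod : ∀ {x : Ω} {s t : G}, InvAt s x → InvAt t x → s * t * s * t ∈ core G x

/-! ### The odd core of a stabiliser -/

theorem core_le (x : Ω) : core G x ≤ stabilizer G x := map_subtype_le _

theorem core_odd (x : Ω) : Odd (Nat.card (core G x)) := by
  rw [core, ← Nat.card_congr ((Cfsg.oddCore _).equivMapOfInjective _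
    (stabilizer G x).subtype_injective).toEquiv]
  exact CfsgLib.ZStar.odd_card_oddCore _

theorem core_smul (x : Ω) {g : G} (hg : g ∈ core G x) : g • x = x := core_le x hg

theorem core_conj_mem {x : Ω} {g w : G} (hg : g • x = x) (hw : w ∈ core G x) :
    g * w * g⁻¹ ∈ core G x := by
  obtain ⟨v, hv, rfl⟩ := hw
  exact ⟨⟨g, hg⟩ * v * ⟨g, hg⟩⁻¹, (inferInstance : (Cfsg.oddCore _).Normal).conj_mem v hv _, rfl⟩

theorem le_normalizer_core (x : Ω) : stabilizer G x ≤ normalizer (core G x : Set G) := by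
  intro g hg
  rw [mem_normalizer_iff]
  refine fun w => ⟨core_conj_mem hg, fun h => ?_⟩
  have := core_conj_mem (inv_mem hg) h
  simpa [mul_assoc] using this

theorem le_core {x : Ω} {N : Subgroup G} (hN : N ≤ stabilizer G x)
    (hn : stabilizer G x ≤ normalizer (N : Set G)) (ho : Odd (Nat.card N)) : N ≤ core G x := by
  haveI : (N.subgroupOf (stabilizer G x)).Normal := normal_subgroupOf_of_le_normalizer hn
  have h : N.subgroupOf (stabilizer G x) ≤ Cfsg.oddCore ↥(stabilizer G x) :=
    CfsgLib.ZStar.le_oddCore inferInstance (by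
      rwa [Nat.card_congr (subgroupOfEquivOfLe hN).toEquiv])
  intro w hw
  exact ⟨⟨w, hN hw⟩, h (mem_subgroupOf.2 hw), rfl⟩

omit [Finite G] [Finite Ω] in
theorem stabilizer_smul_eq (g : G) (x : Ω) :
    stabilizer G (g • x) = (stabilizer G x).map (MulAut.conj g).toMonoidHom :=
  stabilizer_smul_eq_stabilizer_map_conj g x

theorem core_smul_mem {x : Ω} {w : G} (g : G) (hw : w ∈ core G x) :
    g * w * g⁻¹ ∈ core G (g • x) := by
  have hle : (core G x).map (MulAut.conj g).toMonoidHom ≤ core G (g • x) := by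
    refine le_core ?_ ?_ ?_
    · rw [stabilizer_smul_eq]; exact map_mono (core_le x)
    · rw [stabilizer_smul_eq]
      exact le_trans (map_mono (le_normalizer_core x)) (le_normalizer_map _)
    · rw [card_map_conj]; exact core_odd x
  exact hle (conj_mem_map_conj hw)

theorem core_smul_iff {x : Ω} {w : G} (g : G) :
    g * w * g⁻¹ ∈ core G (g • x) ↔ w ∈ core G x := by
  refine ⟨fun h => ?_, core_smul_mem g⟩
  have := core_smul_mem g⁻¹ h
  simpa [mul_assoc] using this

omit [Finite G] [Finite Ω] in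
theorem InvAt.conj {t : G} {x : Ω} (ht : InvAt t x) (g : G) : InvAt (g * t * g⁻¹) (g • x) :=
  ⟨by rw [CfsgLib.Signalizer.orderOf_conj]; exact ht.1,
    by rw [mul_smul, mul_smul, inv_smul_smul, ht.2]⟩

omit [Finite G] [Finite Ω] in
theorem InvAt.conj' {t : G} {x : Ω} (ht : InvAt t x) {g : G} (hg : g • x = x) :
    InvAt (g * t * g⁻¹) x := by
  have := ht.conj g
  rwa [hg] at this

/-! ### Congruence of involutions modulo the core -/

theorem congr_refl {x : Ω} {t : G} (ht : InvAt t x) : t * t ∈ core G x := by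
  rw [involution_sq ht.1]; exact one_mem _

omit [Finite Ω] in
theorem congr_symm {x : Ω} {s t : G} (hs : InvAt s x) (ht : InvAt t x) (h : s * t ∈ core G x) :
    t * s ∈ core G x := by
  have := inv_mem h
  rwa [mul_inv_rev, involution_inv hs.1, involution_inv ht.1] at this

omit [Finite Ω] in
theorem congr_trans {x : Ω} {r s t : G} (hs : InvAt s x) (h₁ : r * s ∈ core G x)
    (h₂ : s * t ∈ core G x) : r * t ∈ core G x := by
  have := mul_mem h₁ h₂
  rwa [mul_assoc, ← mul_assoc s, involution_sq hs.1, one_mul] at this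

theorem congr_conj {x : Ω} {s t g : G} (hg : g • x = x) (h : s * t ∈ core G x) :
    (g * s * g⁻¹) * (g * t * g⁻¹) ∈ core G x := by
  have := core_conj_mem hg h
  simpa [mul_assoc] using this

theorem exists_core_conj {x : Ω} {s t : G} (hs : InvAt s x) (ht : InvAt t x)
    (h : s * t ∈ core G x) : ∃ w ∈ core G x, w * s * w⁻¹ = t :=
  exists_conj_of_mul_mem (core_odd x) hs.1 ht.1 h

/-- The conjugates of `t` under a subgroup. -/
theorem card_conj_class (D : Subgroup G) (t : G) :
    Nat.card {s : G // ∃ d ∈ D, d * t * d⁻¹ = s} * Nat.card (D ⊓ centralizer ({t} : Set G) : Subgroup G) =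
      Nat.card D := by
  let _ : MulAction D G := MulAction.compHom G ((MulAut.conj (G := G)).comp D.subtype)
  have hsm : ∀ (d : D) (s : G), d • s = (d : G) * s * (d : G)⁻¹ := fun d s => rfl
  have e1 : orbit D t = {s : G | ∃ d ∈ D, d * t * d⁻¹ = s} := by
    ext s
    constructor
    · rintro ⟨d, rfl⟩; exact ⟨d, d.2, (hsm d t).symm⟩
    · rintro ⟨d, hd, rfl⟩; exact ⟨⟨d, hd⟩, hsm _ t⟩
  have e2 : stabilizer D t = (D ⊓ centralizer ({t} : Set G)).subgroupOf D := by
    ext d
    rw [mem_stabilizer_iff, hsm, mem_subgroupOf, mem_inf, mem_centralizer_singleton_iff,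
      mul_inv_eq_iff_eq_mul]
    exact ⟨fun h => ⟨d.2, h⟩, fun h => h.2⟩
  have := Nat.card_congr (orbitProdStabilizerEquivGroup D t)
  rw [Nat.card_prod, e1, e2, Nat.card_congr (subgroupOfEquivOfLe inf_le_left).toEquiv] at this
  exact this

variable (hS : Setting G Ω)
include hS

namespace Setting

theorem odd_pairStab {x y : Ω} (hxy : x ≠ y) : Odd (Nat.card (pairStab G x y)) := by
  rw [← Nat.not_even_iff_odd]
  intro he
  obtain ⟨⟨t, htD⟩, ht⟩ := exists_prime_orderOf_dvd_card' 2 (hp := ⟨Nat.prime_two⟩) he.two_dvd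
  rw [Subgroup.orderOf_mk] at ht
  exact hxy (hS.fix_unique ⟨ht, htD.1⟩ ⟨ht, htD.2⟩)

theorem ne_of_inv {t : G} {x y : Ω} (ht : InvAt t x) (hy : y ≠ x) : t • y ≠ y :=
  fun h => hy (hS.fix_unique ⟨ht.1, h⟩ ht)

theorem exists_invAt (x : Ω) : ∃ t : G, InvAt t x :=
  let ⟨s, _, hs, _⟩ := hS.four x
  ⟨s, hs⟩

theorem exists_swapper {x y : Ω} (hxy : x ≠ y) : ∃ v : G, orderOf v = 2 ∧ v • x = y := by
  obtain ⟨t, ht⟩ := hS.exists_invAt x
  haveI : Nonempty {t : G // InvAt t x} := ⟨⟨t, ht⟩⟩
  have h : 0 < Nat.card {i : G // orderOf i = 2 ∧ i • x = y} := by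
    rw [hS.card_swap hxy]; exact Nat.card_pos
  obtain ⟨⟨v, hv⟩⟩ := (Nat.card_pos_iff.1 h).1
  exact ⟨v, hv⟩

theorem swap_back {v : G} {x y : Ω} (hv : orderOf v = 2) (h : v • x = y) : v • y = x := by
  rw [← h, ← mul_smul, involution_sq hv, one_smul]

theorem swapper_normalizer {v : G} {x y : Ω} (hv : orderOf v = 2) (h : v • x = y) :
    v ∈ normalizer (pairStab G x y : Set G) := by
  have h' := swap_back hS hv h
  rw [mem_normalizer_iff]
  intro d
  simp only [SetLike.mem_coe, Subgroup.mem_inf, mem_stabilizer_iff, involution_inv hv, mul_smul, h, h']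
  constructor
  · rintro ⟨h1, h2⟩; exact ⟨by rw [h2, h'], by rw [h1, h]⟩
  · rintro ⟨h1, h2⟩
    exact ⟨smul_left_cancel v (h2.trans h.symm), smul_left_cancel v (h1.trans h'.symm)⟩

theorem card_pairStab_invAt {x y : Ω} (hxy : x ≠ y) {t : G} (ht : InvAt t x) :
    Nat.card {t : G // InvAt t x} * Nat.card (pairStab G x y ⊓ centralizer {t} : Subgroup G) =
      Nat.card (pairStab G x y) := by
  refine Eq.trans ?_ (card_conj_class (pairStab G x y) t)
  congr 1
  refine Nat.card_congr (Equiv.subtypeEquivRight fun s => ⟨fun hs => ?_, ?_⟩)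
  · obtain ⟨d, hd, he⟩ := hS.conj_fixing hxy ht hs
    exact ⟨d, hd, he⟩
  · rintro ⟨d, hd, rfl⟩
    exact ht.conj' hd.1

theorem card_pairStab_swapper {x y : Ω} (hxy : x ≠ y) {v : G} (hv : orderOf v = 2) (h : v • x = y) :
    Nat.card {t : G // InvAt t x} * Nat.card (pairStab G x y ⊓ centralizer {v} : Subgroup G) =
      Nat.card (pairStab G x y) := by
  refine Eq.trans ?_ (card_conj_class (pairStab G x y) v)
  rw [← hS.card_swap hxy]
  congr 1
  refine Nat.card_congr (Equiv.subtypeEquivRight fun s => ⟨fun hs => ?_, ?_⟩)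
  · refine exists_conj_of_mul_mem (hS.odd_pairStab hxy) hv hs.1 ⟨?_, ?_⟩
    · show (v * s) • x = x
      rw [mul_smul, hs.2, swap_back hS hv h]
    · show (v * s) • y = y
      rw [mul_smul, swap_back hS hs.1 hs.2, h]
  · rintro ⟨d, hd, rfl⟩
    refine ⟨by rw [CfsgLib.Signalizer.orderOf_conj]; exact hv, ?_⟩
    rw [mul_smul, mul_smul, inv_smul_eq_iff.2 (show d • x = x from hd.1).symm, h]
    exact hd.2

/-- An odd subgroup of the stabiliser normalised by an involution fixes it modulo the core. -/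
theorem fixes_of_normalizes {x : Ω} {R : Subgroup G} (hR : R ≤ stabilizer G x)
    (hodd : Odd (Nat.card R)) {t : G} (ht : InvAt t x) (htR : t ∈ normalizer (R : Set G))
    {r : G} (hr : r ∈ R) : r * t * r⁻¹ * t ∈ core G x := by
  set c := r * t * r⁻¹ * t with hc
  have hcR : c ∈ R := by
    have := (mem_normalizer_iff.1 htR r⁻¹).1 (inv_mem hr)
    rw [involution_inv ht.1] at this
    rw [hc, mul_assoc, mul_assoc, ← mul_assoc t]
    exact mul_mem hr this
  obtain ⟨n, hn⟩ := hodd.of_dvd_nat (R.orderOf_dvd_natCard hcR)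
  have h2 : c ^ 2 ∈ core G x := by
    have := hS.comm_mod (ht.conj' (hR hr)) ht
    rwa [hc, pow_two, ← mul_assoc]
  have : c = (c ^ 2) ^ (n + 1) := by
    rw [← pow_mul, show 2 * (n + 1) = 2 * n + 1 + 1 by ring, pow_succ, ← hn, pow_orderOf_eq_one,
      one_mul]
  rw [this]
  exact pow_mem h2 _

end Setting

end CfsgLib.Bender
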